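import Cfsg.Agent.Lib.Transfer.Cor
import Cfsg.Agent.Lib.Signal.Basic
import Cfsg.Agent.Lib.Transfer.SmallSylow

/-!
# Cyclic Sylow subgroups: element-level lemmas

Elementary facts on a cyclic `p`-subgroup `P` of a finite group and its normalizer, formulated
without numbers: a `p'`-element normalizing `P` and centralizing its subgroup of order `p`
centralizes `P`; otherwise the commutator map is onto `P`, and so on.
-/

set_option autoImplicit false

namespace Cfsg.Agent.Lib.CyclicSylow.Basic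

open Cfsg Subgroup

universe u

variable {G : Type u} [Group G] [Finite G] {p : ℕ} [hp : Fact p.Prime]

omit [Finite G] in
theorem comm_of_isCyclic {P : Subgroup G} (hP : IsCyclic P) {a b : G} (ha : a ∈ P) (hb : b ∈ P) :
    a * b = b * a := by
  have : (⟨a, ha⟩ : P) * ⟨b, hb⟩ = ⟨b, hb⟩ * ⟨a, ha⟩ := by
    have := hP.isMulCommutative
    exact mul_comm' _ _
  exact congrArg Subtype.val this

/-- In a cyclic subgroup `P`, the elements with `w ^ p = 1` are the powers of a given element of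
order `p`. -/
theorem mem_zpowers_of_pow_eq_one {P : Subgroup G} (hP : IsCyclic P) {u w : G} (hu : u ∈ P)
    (huo : orderOf u = p) (hw : w ∈ P) (hwp : w ^ p = 1) : w ∈ zpowers u := by
  classical
  haveI := Fintype.ofFinite P
  have h1 := IsCyclic.card_pow_eq_one_le (α := P) hp.out.pos
  let u' : P := ⟨u, hu⟩
  have hu'o : orderOf u' = p := by
    rw [← huo]; exact Subgroup.orderOf_coe u' ▸ rfl
  let S : Finset P := (Finset.univ.filter fun z : P => z ∈ zpowers u')
  have hS : S.card = p := by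
    have : S.card = Nat.card (zpowers u') := by
      rw [Nat.card_eq_fintype_card, Fintype.card_subtype]
    rw [this, Nat.card_zpowers, hu'o]
  have hsub : S ⊆ Finset.univ.filter fun z : P => z ^ p = 1 := by
    intro z hz
    simp only [S, Finset.mem_filter, Finset.mem_univ, true_and] at hz ⊢
    obtain ⟨k, rfl⟩ := hz
    show (u' ^ k) ^ p = 1
    rw [← zpow_natCast, ← zpow_mul, mul_comm, zpow_mul, zpow_natCast, ← hu'o, pow_orderOf_eq_one,
      one_zpow]
  have heq := Finset.eq_of_subset_of_card_le hsub (by rw [hS]; exact h1)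
  have hw' : (⟨w, hw⟩ : P) ∈ Finset.univ.filter fun z : P => z ^ p = 1 := by
    simp only [Finset.mem_filter, Finset.mem_univ, true_and]
    exact Subtype.ext (by simpa using hwp)
  rw [← heq] at hw'
  simp only [S, Finset.mem_filter, Finset.mem_univ, true_and] at hw'
  obtain ⟨k, hk⟩ := hw'
  exact ⟨k, by simpa [u'] using congrArg Subtype.val hk⟩

/-- Every nontrivial subgroup of a cyclic `p`-group contains a given element of order `p`. -/
theorem mem_zpowers_of_ne_one {P : Subgroup G} (hP : IsCyclic P) (hPp : IsPGroup p P) {u w : G}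
    (hu : u ∈ P) (huo : orderOf u = p) (hw : w ∈ P) (hw1 : w ≠ 1) : u ∈ zpowers w := by
  obtain ⟨k, hk⟩ := (IsPGroup.iff_orderOf.mp hPp) ⟨w, hw⟩
  have hk' : orderOf w = p ^ k := by rw [← hk]; exact (Subgroup.orderOf_mk w hw).symm
  have hk0 : k ≠ 0 := by
    rintro rfl
    rw [pow_zero, orderOf_eq_one_iff] at hk'
    exact hw1 hk'
  have hd : p ∣ orderOf w := by rw [hk']; exact dvd_pow_self p hk0
  set w' := w ^ (orderOf w / p) with hw'
  have hw'o : orderOf w' = p := orderOf_pow_orderOf_div (orderOf_pos w).ne' hd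
  have hw'P : w' ∈ P := P.pow_mem hw _
  have h1 : u ∈ zpowers w' :=
    mem_zpowers_of_pow_eq_one hP hw'P hw'o hu (by rw [← huo]; exact pow_orderOf_eq_one u)
  obtain ⟨j, hj⟩ := h1
  refine ⟨(orderOf w / p : ℕ) * j, ?_⟩
  show w ^ (((orderOf w / p : ℕ) : ℤ) * j) = u
  rw [zpow_mul, zpow_natCast]
  exact hj

/-- **Lemma 1**. A `p'`-element normalizing a cyclic `p`-subgroup `P` and commuting with an element
of order `p` of `P` centralizes `P`. -/
theorem commute_of_coprime_of_commute {P : Subgroup G} (hP : IsCyclic P) (hPp : IsPGroup p P)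
    {u y : G} (hu : u ∈ P) (huo : orderOf u = p) (hy : y ∈ normalizer (P : Set G))
    (hyo : Nat.Coprime (orderOf y) p) (hyu : Commute y u) {x : G} (hx : x ∈ P) :
    Commute y x := by
  by_contra hne
  have hx' : y * x * y⁻¹ ∈ P := (mem_normalizer_iff.mp hy x).mp hx
  set z := x⁻¹ * (y * x * y⁻¹) with hz
  have hzP : z ∈ P := P.mul_mem (P.inv_mem hx) hx'
  have hz1 : z ≠ 1 := by
    intro h
    apply hne
    have : y * x * y⁻¹ = x := by
      rw [hz, inv_mul_eq_one] at h
      exact h.symm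
    exact (mul_inv_eq_iff_eq_mul.mp this)
  obtain ⟨j, hj⟩ := mem_zpowers_of_ne_one hP hPp hu huo hzP hz1
  simp only at hj
  set w := x ^ j with hw
  have hwP : w ∈ P := P.zpow_mem hx j
  have hxz : y * x * y⁻¹ = x * z := by rw [hz]; group
  have hcomm : Commute x z := comm_of_isCyclic hP hx hzP
  have h1 : y * w * y⁻¹ = w * u := by
    rw [hw, ← hj, ← hcomm.mul_zpow, ← hxz, ← MulAut.conj_apply, ← MulAut.conj_apply, map_zpow]
  have h2 : ∀ n : ℕ, y ^ n * w * (y ^ n)⁻¹ = w * u ^ n := by
    intro n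
    induction n with
    | zero => simp
    | succ n ih =>
      have hcu : Commute (y ^ n) u := hyu.pow_left n
      calc y ^ (n + 1) * w * (y ^ (n + 1))⁻¹ = y * (y ^ n * w * (y ^ n)⁻¹) * y⁻¹ := by
            rw [pow_succ']; group
        _ = y * w * y⁻¹ * (y * u ^ n * y⁻¹) := by rw [ih]; group
        _ = w * u * u ^ n := by
            rw [h1, ((hyu.pow_right n).eq), mul_inv_cancel_right]
        _ = w * u ^ (n + 1) := by rw [pow_succ', mul_assoc]
  have h3 := h2 (orderOf y)
  rw [pow_orderOf_eq_one] at h3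
  simp only [one_mul, inv_one, mul_one] at h3
  have h4 : u ^ orderOf y = 1 := by
    have := h3
    exact (mul_eq_left.mp this.symm)
  have h5 : p ∣ orderOf y := by rw [← huo]; exact orderOf_dvd_of_pow_eq_one h4
  have := Nat.Coprime.eq_one_of_dvd hyo.symm h5
  exact hp.out.ne_one this

/-- **Lemma 2**. If `h` normalizes the cyclic `p`-group `P` and moves its element `u` of order `p`,
the commutator map is onto `P`. -/
theorem exists_comm_eq {P : Subgroup G} (hP : IsCyclic P) (hPp : IsPGroup p P)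
    {u h : G} (hu : u ∈ P) (huo : orderOf u = p) (hh : h ∈ normalizer (P : Set G))
    (hhu : ¬ Commute h u) {x : G} (hx : x ∈ P) :
    ∃ x' ∈ P, x = x'⁻¹ * (h * x' * h⁻¹) := by
  have hmem : ∀ a : P, (a : G)⁻¹ * (h * a * h⁻¹) ∈ P := fun a =>
    P.mul_mem (P.inv_mem a.2) ((mem_normalizer_iff.mp hh a).mp a.2)
  let φ : P → P := fun a => ⟨(a : G)⁻¹ * (h * a * h⁻¹), hmem a⟩
  have hinj : Function.Injective φ := by
    intro a b hab
    have hab' : (a : G)⁻¹ * (h * a * h⁻¹) = (b : G)⁻¹ * (h * b * h⁻¹) := congrArg Subtype.val hab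
    by_contra hne
    have hc : (a : G) * (b : G)⁻¹ ≠ 1 := by
      intro h1
      apply hne
      exact Subtype.ext (mul_inv_eq_one.mp h1)
    have hcP : (a : G) * (b : G)⁻¹ ∈ P := P.mul_mem a.2 (P.inv_mem b.2)
    obtain ⟨j, hj⟩ := mem_zpowers_of_ne_one hP hPp hu huo hcP hc
    simp only at hj
    -- `h` commutes with `a b⁻¹`
    have haP := (mem_normalizer_iff.mp hh a).mp a.2
    have hbP := (mem_normalizer_iff.mp hh b).mp b.2
    have hcc : Commute h ((a : G) * (b : G)⁻¹) := by
      have e1 : h * a * h⁻¹ = a * (b : G)⁻¹ * (h * b * h⁻¹) := by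
        calc h * a * h⁻¹ = (a : G) * ((a : G)⁻¹ * (h * a * h⁻¹)) := by group
          _ = (a : G) * ((b : G)⁻¹ * (h * b * h⁻¹)) := by rw [hab']
          _ = a * (b : G)⁻¹ * (h * b * h⁻¹) := by group
      show h * ((a : G) * (b : G)⁻¹) = ((a : G) * (b : G)⁻¹) * h
      have e3 : h * ((a : G) * (b : G)⁻¹) * h⁻¹ = (a : G) * (b : G)⁻¹ := by
        have e4 : h * ((a : G) * (b : G)⁻¹) * h⁻¹ = (h * a * h⁻¹) * (h * b * h⁻¹)⁻¹ := by group
        rw [e4, e1]
        group
      exact mul_inv_eq_iff_eq_mul.mp e3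
    apply hhu
    rw [← hj]
    exact hcc.zpow_right j
  have hsurj := Finite.injective_iff_surjective.mp hinj
  obtain ⟨a, ha⟩ := hsurj ⟨x, hx⟩
  exact ⟨a, a.2, (congrArg Subtype.val ha).symm⟩

/-- **Lemma 3**. If `h` normalizes `P`, moves `u`, and centralizes a set `A` normalized by `P`, then
`P` centralizes `A`. -/
theorem commute_of_commute_set {P : Subgroup G} (hP : IsCyclic P) (hPp : IsPGroup p P)
    {u h : G} (hu : u ∈ P) (huo : orderOf u = p) (hh : h ∈ normalizer (P : Set G))
    (hhu : ¬ Commute h u) {A : Set G} (hA : ∀ a ∈ A, ∀ x ∈ P, x * a * x⁻¹ ∈ A)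
    (hhA : ∀ a ∈ A, Commute h a) {x a : G} (hx : x ∈ P) (ha : a ∈ A) : Commute x a := by
  obtain ⟨x', hx', rfl⟩ := exists_comm_eq hP hPp hu huo hh hhu hx
  have h1 : (h * x' * h⁻¹) * a * (h * x' * h⁻¹)⁻¹ = x' * a * x'⁻¹ := by
    have e1 : h * a = a * h := hhA a ha
    have e2 : h * (x' * a * x'⁻¹) = (x' * a * x'⁻¹) * h := hhA _ (hA a ha x' hx')
    calc (h * x' * h⁻¹) * a * (h * x' * h⁻¹)⁻¹
        = h * x' * (h⁻¹ * a * h) * x'⁻¹ * h⁻¹ := by group
      _ = h * (x' * a * x'⁻¹) * h⁻¹ := by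
          have : h⁻¹ * a * h = a := by rw [mul_assoc, inv_mul_eq_iff_eq_mul, e1]
          rw [this]; group
      _ = x' * a * x'⁻¹ := by rw [e2]; group
  show x'⁻¹ * (h * x' * h⁻¹) * a = a * (x'⁻¹ * (h * x' * h⁻¹))
  have h2 : (h * x' * h⁻¹) * a = (x' * a * x'⁻¹) * (h * x' * h⁻¹) := by
    rw [← h1]; group
  rw [mul_assoc, h2]
  group

/-- **Lemma 4**. A `p'`-element normalizing a `p'`-subgroup centralizes it, when all `p'`-subgroups
are abelian. -/
theorem commute_of_normalizes {A : Subgroup G} {h : G} (hA : ¬ p ∣ Nat.card A)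
    (hh : Nat.Coprime (orderOf h) p) (hN : h ∈ normalizer (A : Set G))
    (hab : ∀ H : Subgroup G, ¬ p ∣ Nat.card H → IsMulCommutative H) {a : G} (ha : a ∈ A) :
    Commute h a := by
  have hle : zpowers h ≤ normalizer (A : Set G) := by
    rw [zpowers_le]; exact hN
  have h1 : ¬ p ∣ Nat.card (zpowers h) := by
    rw [Nat.card_zpowers]
    intro hd
    exact hp.out.ne_one (Nat.Coprime.eq_one_of_dvd hh.symm hd)
  have h2 := Signal.Basic.not_dvd_card_sup_of_le_normalizer hp.out hle hA h1
  have h3 := hab _ h2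
  have hha : h ∈ A ⊔ zpowers h := mem_sup_right (mem_zpowers h)
  have haa : a ∈ A ⊔ zpowers h := mem_sup_left ha
  have : (⟨h, hha⟩ : ↥(A ⊔ zpowers h)) * ⟨a, haa⟩ = ⟨a, haa⟩ * ⟨h, hha⟩ := mul_comm' _ _
  exact congrArg Subtype.val this

/-- A subgroup whose elements all have order prime to `p` has order prime to `p`. -/
theorem not_dvd_card_of_forall_coprime {A : Subgroup G}
    (hA : ∀ a ∈ A, Nat.Coprime (orderOf a) p) : ¬ p ∣ Nat.card A := by
  intro hd
  obtain ⟨a, ha⟩ := exists_prime_orderOf_dvd_card' (G := A) p hd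
  have h1 := hA a a.2
  rw [Subgroup.orderOf_coe, ha] at h1
  exact hp.out.ne_one ((Nat.coprime_self p).mp h1)

/-- Burnside's transfer theorem in a subgroup. -/
theorem burnside_sub (H : Subgroup G) (Q : Sylow p G) (hQH : (Q : Subgroup G) ≤ H)
    (hN : ∀ y ∈ H, y ∈ normalizer ((Q : Subgroup G) : Set G) →
      ∀ x ∈ (Q : Subgroup G), Commute y x) :
    HasNormalPComplement p H := by
  let Q' : Sylow p H := Q.subtype hQH
  have hQ' : ∀ a : H, a ∈ (Q' : Subgroup H) ↔ (a : G) ∈ (Q : Subgroup G) := by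
    intro a
    rw [Sylow.coe_subtype, mem_subgroupOf]
  have hN' : normalizer ((Q' : Subgroup H) : Set H) ≤ centralizer ((Q' : Subgroup H) : Set H) := by
    intro y hy
    rw [mem_centralizer_iff]
    intro x hx
    have hyG : (y : G) ∈ normalizer ((Q : Subgroup G) : Set G) := by
      rw [mem_normalizer_iff]
      intro z
      have hy' := mem_normalizer_iff.mp hy
      constructor
      · intro hz
        have := (hy' ⟨z, hQH hz⟩).mp ((hQ' _).mpr hz)
        exact (hQ' _).mp this
      · intro hz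
        have hzH : z ∈ H := by
          have h1 : (y : G) * z * (y : G)⁻¹ ∈ H := hQH hz
          have h2 : (y : G)⁻¹ * ((y : G) * z * (y : G)⁻¹) * y ∈ H :=
            H.mul_mem (H.mul_mem (H.inv_mem y.2) h1) y.2
          simpa [mul_assoc] using h2
        have := (hy' ⟨z, hzH⟩).mpr ((hQ' _).mpr hz)
        exact (hQ' _).mp this
    have := hN y y.2 hyG x ((hQ' x).mp hx)
    exact Subtype.ext this.symm.eq
  exact ⟨Q', _, inferInstance, MonoidHom.ker_transferSylow_isComplement' Q' hN'⟩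

end Cfsg.Agent.Lib.CyclicSylow.Basic
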