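import Cfsg.Agent.Lib.CyclicSylow.Local

/-!
# A regular graph of valency at least `3` cannot have the friendship property

and its consequence for the residual configuration (`p = 3`, all involutions conjugate).
-/

set_option autoImplicit false

namespace Cfsg.Agent.Lib.CyclicSylow

open Subgroup

universe u

/-- The trace argument of the friendship theorem. -/
theorem no_regular_friendship {I : Type*} [Fintype I] [DecidableEq I] [Nonempty I]
    (adj : I → I → Prop) [DecidableRel adj] (hirr : ∀ a, ¬ adj a a) {d : ℕ} (hd : 3 ≤ d)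
    (hreg : ∀ a, (Finset.univ.filter (fun w => adj a w)).card = d)
    (hsym : ∀ a b, adj a b → adj b a)
    (hf : ∀ a b, a ≠ b → (Finset.univ.filter (fun w => adj a w ∧ adj w b)).card = 1) : False := by
  obtain ⟨l, hl, hld⟩ := Nat.exists_prime_and_dvd (show d - 1 ≠ 1 by omega)
  haveI : Fact l.Prime := ⟨hl⟩
  let M : Matrix I I (ZMod l) := Matrix.of fun a b => if adj a b then 1 else 0
  let J : Matrix I I (ZMod l) := Matrix.of fun _ _ => 1
  have hd1 : (d : ZMod l) = 1 := by
    have h1 : ((d - 1 : ℕ) : ZMod l) = 0 := (ZMod.natCast_eq_zero_iff _ _).mpr hld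
    have h2 : d = (d - 1) + 1 := by omega
    rw [h2, Nat.cast_add, h1]
    simp
  have hsum : ∀ (P : I → Prop) [DecidablePred P],
      (∑ w, if P w then (1 : ZMod l) else 0) = ((Finset.univ.filter P).card : ZMod l) := by
    intro P _
    rw [Finset.sum_boole]
  have hMM : M * M = J := by
    ext a b
    simp only [Matrix.mul_apply, M, J, Matrix.of_apply]
    have h1 : ∀ w, (if adj a w then (1 : ZMod l) else 0) * (if adj w b then 1 else 0) =
        if adj a w ∧ adj w b then 1 else 0 := by
      intro w
      by_cases h2 : adj a w <;> by_cases h3 : adj w b <;> simp [h2, h3]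
    simp only [h1]
    rw [hsum]
    by_cases hab : a = b
    · subst hab
      have h2 : Finset.univ.filter (fun w => adj a w ∧ adj w a) =
          Finset.univ.filter (fun w => adj a w) := by
        ext w
        simp only [Finset.mem_filter, Finset.mem_univ, true_and]
        exact ⟨fun h => h.1, fun h => ⟨h, hsym _ _ h⟩⟩
      rw [h2, hreg, hd1]
    · rw [hf a b hab]
      simp
  have hMJ : M * J = J := by
    ext a b
    simp only [Matrix.mul_apply, M, J, Matrix.of_apply, mul_one]
    rw [hsum, hreg, hd1]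
  have hpow : ∀ n, 2 ≤ n → M ^ n = J := by
    intro n hn
    induction n, hn using Nat.le_induction with
    | base => rw [pow_two, hMM]
    | succ n _ ih => rw [pow_succ', ih, hMJ]
  have htr := ZMod.trace_pow_card M
  rw [hpow l hl.two_le] at htr
  have h0 : Matrix.trace M = 0 := by
    simp only [Matrix.trace, Matrix.diag, M, Matrix.of_apply]
    exact Finset.sum_eq_zero fun a _ => by simp [hirr a]
  rw [h0, zero_pow hl.ne_zero] at htr
  have hJJ : J * J = J := by
    calc J * J = (M * M) * J := by rw [hMM]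
      _ = M * (M * J) := Matrix.mul_assoc _ _ _
      _ = J := by rw [hMJ, hMJ]
  obtain ⟨a⟩ : Nonempty I := inferInstance
  have h1 := congrFun (congrFun hJJ a) a
  simp only [Matrix.mul_apply, J, Matrix.of_apply, mul_one] at h1
  have h2 : Matrix.trace J = ∑ _w : I, (1 : ZMod l) := by
    simp [Matrix.trace, J]
  rw [htr] at h2
  rw [← h2] at h1
  exact zero_ne_one h1

section residual

variable {G : Type u} [Group G] [Finite G]

omit [Finite G] in
theorem inv_eq_of_order_two {t : G} (ht : orderOf t = 2) : t⁻¹ = t := by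
  have h1 : t ^ 2 = 1 := by rw [← ht]; exact pow_orderOf_eq_one t
  rw [inv_eq_iff_mul_eq_one, ← pow_two, h1]

omit [Finite G] in
theorem mul_self_of_order_two {t : G} (ht : orderOf t = 2) : t * t = 1 := by
  have h1 : t ^ 2 = 1 := by rw [← ht]; exact pow_orderOf_eq_one t
  rwa [pow_two] at h1

omit [Finite G] in
theorem ne_one_of_order_two {t : G} (ht : orderOf t = 2) : t ≠ 1 := by
  rintro rfl
  simp at ht

omit [Finite G] in
theorem order_two_of {t : G} (h1 : t * t = 1) (h2 : t ≠ 1) : orderOf t = 2 :=
  orderOf_eq_prime (by rwa [pow_two]) h2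

omit [Finite G] in
/-- In a group of order three there are only the powers. -/
theorem eq_inv_of_mem_zpowers {v x : G} (hv : orderOf v = 3) (hx : x ∈ zpowers v) (h1 : x ≠ 1)
    (h2 : x ≠ v) : x = v⁻¹ := by
  obtain ⟨j, rfl⟩ := hx
  simp only at h1 h2 ⊢
  rw [← zpow_mod_orderOf, hv] at h1 h2 ⊢
  have h3 : j % ((3 : ℕ) : ℤ) = 0 ∨ j % ((3 : ℕ) : ℤ) = 1 ∨ j % ((3 : ℕ) : ℤ) = 2 := by
    omega
  have hv3 : v ^ 3 = 1 := by rw [← hv]; exact pow_orderOf_eq_one v
  rcases h3 with h3 | h3 | h3
  · rw [h3] at h1; simp at h1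
  · rw [h3] at h2; simp at h2
  · rw [h3]
    rw [eq_inv_iff_mul_eq_one]
    have : v ^ (2 : ℤ) * v = v ^ 3 := by
      rw [zpow_two, pow_succ, pow_two]
    rw [this, hv3]

/-- Data for the residual configuration. -/
structure Resid (G : Type u) [Group G] : Prop where
  hab : ∀ H : Subgroup G, ¬ 3 ∣ Nat.card H → IsMulCommutative H
  hexw : ∀ v : G, orderOf v = 3 → ∃ w : G, orderOf w = 2 ∧ Commute w v
  huniq : ∀ v w w' : G, orderOf v = 3 → orderOf w = 2 → orderOf w' = 2 → Commute w v →
    Commute w' v → w = w'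
  hexv : ∀ t : G, orderOf t = 2 → ∃ v : G, orderOf v = 3 ∧ Commute t v
  hN1 : ∀ t v y : G, orderOf t = 2 → orderOf v = 3 → Commute t v → Commute y t →
    y * v * y⁻¹ ∈ zpowers v
  hN2 : ∀ t v y : G, orderOf t = 2 → orderOf v = 3 → Commute t v → y * v * y⁻¹ ∈ zpowers v →
    Commute y t

omit [Finite G] in
theorem Resid.comm_case (R : Resid G) {a b w : G} (ha : orderOf a = 2) (hb : orderOf b = 2)
    (hw : orderOf w = 2) (hab : a ≠ b) (haw : a ≠ w) (hwb : w ≠ b) (c1 : Commute a w)
    (c2 : Commute w b) (c3 : Commute a b) : w = a * b := by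
  obtain ⟨v, hv, hav⟩ := R.hexv a ha
  have hinv : ∀ x : G, orderOf x = 2 → a ≠ x → Commute x a → x * v * x⁻¹ = v⁻¹ := by
    intro x hx hax hxa
    apply eq_inv_of_mem_zpowers hv (R.hN1 a v x ha hv hav hxa)
    · intro h
      have h1 : orderOf (x * v * x⁻¹) = 3 := by
        have := orderOf_injective (MulAut.conj x).toMonoidHom (MulAut.conj x).injective v
        rw [hv] at this
        simpa using this
      rw [h] at h1
      simp at h1
    · intro h
      have h1 : Commute x v := mul_inv_eq_iff_eq_mul.mp h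
      exact hax (R.huniq v a x hv ha hx hav h1)
  have h1 := hinv b hb hab c3.symm
  have h2 := hinv w hw haw c1.symm
  have h3 : Commute (b * w) v := by
    show b * w * v = v * (b * w)
    have : (b * w) * v * (b * w)⁻¹ = v := by
      calc (b * w) * v * (b * w)⁻¹ = b * (w * v * w⁻¹) * b⁻¹ := by group
        _ = (b * v * b⁻¹)⁻¹ := by rw [h2]; group
        _ = v := by rw [h1, inv_inv]
    exact mul_inv_eq_iff_eq_mul.mp this
  have hbw : Commute b w := c2.symm
  have h4 : orderOf (b * w) = 2 := by
    apply order_two_of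
    · calc b * w * (b * w) = (b * b) * (w * w) := by
            rw [mul_assoc, ← mul_assoc w b w, ← hbw.eq, mul_assoc b w w, mul_assoc]
        _ = 1 := by rw [mul_self_of_order_two hb, mul_self_of_order_two hw, one_mul]
    · intro h
      apply hwb
      have h5 : w = b⁻¹ := eq_inv_of_mul_eq_one_right h
      rw [h5, inv_eq_of_order_two hb]
  have h5 : b * w = a := R.huniq v _ _ hv h4 ha h3 hav
  calc w = w * (b * b) := by rw [mul_self_of_order_two hb, mul_one]
    _ = (b * w) * b := by rw [← mul_assoc, ← hbw.eq]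
    _ = a * b := by rw [h5]

theorem Resid.noncomm_case (R : Resid G) {a b : G} (ha : orderOf a = 2) (hb : orderOf b = 2)
    (hab : ¬ Commute a b) : ∃ w : G, orderOf w = 2 ∧ Commute a w ∧ Commute b w ∧
      ∀ x : G, orderOf x = 2 → Commute a x → Commute b x → x = w := by
  set g := a * b with hg
  have haa := mul_self_of_order_two ha
  have hbb := mul_self_of_order_two hb
  have hinva := inv_eq_of_order_two ha
  have hinvb := inv_eq_of_order_two hb
  have hag : a * g * a⁻¹ = g⁻¹ := by
    rw [hg, mul_inv_rev, hinva, hinvb, ← mul_assoc, haa, one_mul]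
  have hbg : b * g * b⁻¹ = g⁻¹ := by
    rw [hg, mul_inv_rev, hinva, hinvb, mul_assoc, mul_assoc, hbb, mul_one]
  have h3 : 3 ∣ orderOf g := by
    by_contra hn
    have h1 : zpowers a ≤ normalizer (zpowers g : Set G) := by
      rw [zpowers_le]
      apply mem_normalizer_of_conj_mem
      rintro w ⟨j, rfl⟩
      simp only
      rw [← conj_zpow, hag]
      exact (zpowers g).zpow_mem (inv_mem (mem_zpowers g)) j
    have h2 : ¬ 3 ∣ Nat.card (zpowers a) := by
      rw [Nat.card_zpowers, ha]
      norm_num
    have h3 : ¬ 3 ∣ Nat.card (zpowers g) := by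
      rw [Nat.card_zpowers]
      exact hn
    have h4 := Signal.Basic.not_dvd_card_sup_of_le_normalizer Nat.prime_three h1 h3 h2
    have h5 := R.hab _ h4
    have hag' : a ∈ zpowers g ⊔ zpowers a := mem_sup_right (mem_zpowers a)
    have hgg' : g ∈ zpowers g ⊔ zpowers a := mem_sup_left (mem_zpowers g)
    have h6 : (⟨a, hag'⟩ : ↥(zpowers g ⊔ zpowers a)) * ⟨g, hgg'⟩ = ⟨g, hgg'⟩ * ⟨a, hag'⟩ :=
      mul_comm' _ _
    have h7 : a * g = g * a := congrArg Subtype.val h6
    apply hab
    rw [hg] at h7
    have h8 : a * (a * b) = a * (b * a) := by rw [h7]; group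
    exact mul_left_cancel h8
  set v := g ^ (orderOf g / 3) with hv
  have hvo : orderOf v = 3 := orderOf_pow_orderOf_div (orderOf_pos g).ne' h3
  have hav : a * v * a⁻¹ ∈ zpowers v := by
    rw [hv, ← conj_pow, hag, inv_pow]
    exact inv_mem (mem_zpowers _)
  have hbv : b * v * b⁻¹ ∈ zpowers v := by
    rw [hv, ← conj_pow, hbg, inv_pow]
    exact inv_mem (mem_zpowers _)
  obtain ⟨w, hw, hwv⟩ := R.hexw v hvo
  refine ⟨w, hw, R.hN2 w v a hw hvo hwv hav, R.hN2 w v b hw hvo hwv hbv, ?_⟩
  intro x hx hax hbx
  have h1 : Commute x g := ((hax.mul_left hbx)).symm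
  have h2 : Commute x v := h1.pow_right _
  exact R.huniq v x w hvo hx hw h2 hwv

omit [Finite G] in
theorem order_two_conj {t : G} (ht : orderOf t = 2) (g : G) : orderOf (g * t * g⁻¹) = 2 := by
  have := orderOf_injective (MulAut.conj g).toMonoidHom (MulAut.conj g).injective t
  rw [ht] at this
  simpa using this

/-- The residual configuration does not exist. -/
theorem Resid.false (R : Resid G) (k : G) (hk : orderOf k = 2)
    (hconj : ∀ t : G, orderOf t = 2 → ∃ g : G, g * k * g⁻¹ = t)
    (s₁ s₂ s₃ : G) (h₁ : orderOf s₁ = 2) (h₂ : orderOf s₂ = 2) (h₃ : orderOf s₃ = 2)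
    (c₁ : Commute k s₁) (c₂ : Commute k s₂) (c₃ : Commute k s₃)
    (n₁ : k ≠ s₁) (n₂ : k ≠ s₂) (n₃ : k ≠ s₃)
    (d₁₂ : s₁ ≠ s₂) (d₁₃ : s₁ ≠ s₃) (d₂₃ : s₂ ≠ s₃) : False := by
  classical
  let I := {t : G // orderOf t = 2}
  haveI : Fintype I := Fintype.ofFinite I
  haveI : Nonempty I := ⟨⟨k, hk⟩⟩
  let adj : I → I → Prop := fun a b => a ≠ b ∧ Commute (a : G) (b : G)
  have hirr : ∀ a, ¬ adj a a := fun a h => h.1 rfl
  have hsym : ∀ a b, adj a b → adj b a := fun a b h => ⟨h.1.symm, h.2.symm⟩
  let k' : I := ⟨k, hk⟩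
  have hreg : ∀ a, (Finset.univ.filter (fun w => adj a w)).card =
      (Finset.univ.filter (fun w => adj k' w)).card := by
    intro a
    obtain ⟨g, hg⟩ := hconj a a.2
    symm
    let c : I → I := fun w => ⟨g * w * g⁻¹, order_two_conj w.2 g⟩
    apply Finset.card_bij (fun w _ => c w)
    · intro w hw
      simp only [Finset.mem_filter, Finset.mem_univ, true_and] at hw ⊢
      refine ⟨?_, ?_⟩
      · intro h
        apply hw.1
        have h1 : g * k * g⁻¹ = g * w * g⁻¹ := by
          rw [hg]
          exact congrArg Subtype.val h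
        exact Subtype.ext (by simpa using h1)
      · have h1 : Commute (MulAut.conj g k) (MulAut.conj g (w : G)) := hw.2.map _
        show Commute (a : G) (g * w * g⁻¹)
        rw [← hg]
        simpa using h1
    · intro w _ w' _ h
      have h1 : g * w * g⁻¹ = g * w' * g⁻¹ := congrArg Subtype.val h
      exact Subtype.ext (by simpa using h1)
    · intro w hw
      simp only [Finset.mem_filter, Finset.mem_univ, true_and] at hw
      have ho : orderOf (g⁻¹ * w * g⁻¹⁻¹) = 2 := order_two_conj w.2 g⁻¹
      refine ⟨⟨g⁻¹ * w * g⁻¹⁻¹, ho⟩, ?_, ?_⟩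
      · simp only [Finset.mem_filter, Finset.mem_univ, true_and]
        refine ⟨?_, ?_⟩
        · intro h
          apply hw.1
          have h1 : k = g⁻¹ * w * g⁻¹⁻¹ := congrArg Subtype.val h
          apply Subtype.ext
          rw [← hg, h1]
          group
        · have h1 : Commute (MulAut.conj g⁻¹ (a : G)) (MulAut.conj g⁻¹ (w : G)) := hw.2.map _
          have h2 : MulAut.conj g⁻¹ (a : G) = k := by
            rw [← hg]
            simp only [MulAut.conj_apply, inv_inv]
            group
          rw [h2] at h1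
          simpa using h1
      · apply Subtype.ext
        show g * (g⁻¹ * w * g⁻¹⁻¹) * g⁻¹ = w
        group
  have hd : 3 ≤ (Finset.univ.filter (fun w => adj k' w)).card := by
    let S : Finset I := {⟨s₁, h₁⟩, ⟨s₂, h₂⟩, ⟨s₃, h₃⟩}
    have hS : S.card = 3 := by
      rw [Finset.card_eq_three]
      exact ⟨_, _, _, fun h => d₁₂ (congrArg Subtype.val h), fun h => d₁₃ (congrArg Subtype.val h),
        fun h => d₂₃ (congrArg Subtype.val h), rfl⟩
    rw [← hS]
    apply Finset.card_le_card
    intro w hw
    simp only [S, Finset.mem_insert, Finset.mem_singleton] at hw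
    simp only [Finset.mem_filter, Finset.mem_univ, true_and]
    rcases hw with rfl | rfl | rfl
    · exact ⟨fun h => n₁ (congrArg Subtype.val h), c₁⟩
    · exact ⟨fun h => n₂ (congrArg Subtype.val h), c₂⟩
    · exact ⟨fun h => n₃ (congrArg Subtype.val h), c₃⟩
  refine no_regular_friendship adj hirr hd hreg hsym ?_
  intro a b hab
  rw [Finset.card_eq_one]
  have hab' : (a : G) ≠ b := fun h => hab (Subtype.ext h)
  by_cases hc : Commute (a : G) (b : G)
  · have hao := mul_self_of_order_two a.2
    have hbo := mul_self_of_order_two b.2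
    have ho : orderOf ((a : G) * b) = 2 := by
      apply order_two_of
      · calc (a : G) * b * (a * b) = (a * a) * (b * b) := by
              rw [mul_assoc, ← mul_assoc (b : G) a b, ← hc.eq, mul_assoc (a : G) b b, mul_assoc]
          _ = 1 := by rw [hao, hbo, one_mul]
      · intro h
        apply hab'
        rw [eq_inv_of_mul_eq_one_left h, inv_eq_of_order_two b.2]
    refine ⟨⟨_, ho⟩, ?_⟩
    ext w
    simp only [Finset.mem_filter, Finset.mem_univ, true_and, Finset.mem_singleton]
    constructor
    · rintro ⟨⟨h1, h2⟩, ⟨h3, h4⟩⟩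
      apply Subtype.ext
      exact R.comm_case a.2 b.2 w.2 hab' (fun h => h1 (Subtype.ext h))
        (fun h => h3 (Subtype.ext h)) h2 h4 hc
    · rintro rfl
      refine ⟨⟨?_, ?_⟩, ⟨?_, ?_⟩⟩
      · intro h
        have h1 : (a : G) = a * b := congrArg Subtype.val h
        exact ne_one_of_order_two b.2 (by simpa using h1)
      · exact (Commute.refl _).mul_right hc
      · intro h
        have h1 : (a : G) * b = b := congrArg Subtype.val h
        exact ne_one_of_order_two a.2 (by simpa using h1)
      · exact hc.mul_left (Commute.refl _)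
  · obtain ⟨w, hw, haw, hbw, huw⟩ := R.noncomm_case a.2 b.2 hc
    refine ⟨⟨w, hw⟩, ?_⟩
    ext x
    simp only [Finset.mem_filter, Finset.mem_univ, true_and, Finset.mem_singleton]
    constructor
    · rintro ⟨⟨h1, h2⟩, ⟨h3, h4⟩⟩
      apply Subtype.ext
      exact huw x x.2 h2 h4.symm
    · rintro rfl
      refine ⟨⟨?_, haw⟩, ⟨?_, hbw.symm⟩⟩
      · intro h
        have h1 : (a : G) = w := congrArg Subtype.val h
        apply hc
        rw [h1]
        exact hbw.symm
      · intro h
        have h1 : w = b := congrArg Subtype.val h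
        apply hc
        rw [← h1]
        exact haw

end residual

end Cfsg.Agent.Lib.CyclicSylow
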