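import Cfsg.Agent.Lib.CyclicSylow.Basic

/-!
# Cyclic Sylow subgroups: local structure in a minimal counterexample
-/

set_option autoImplicit false

namespace Cfsg.Agent.Lib.CyclicSylow

open Cfsg Subgroup Cfsg.Agent.Lib.Transfer.Basic Cfsg.Agent.Lib.CyclicSylow.Basic

universe u

variable {G : Type u} [Group G] [Finite G] {p : ℕ} [hp : Fact p.Prime]

/-- A minimal counterexample to the dichotomy. -/
structure Setup (p : ℕ) (G : Type u) [Group G] [Finite G] [Fact p.Prime] : Prop where
  cyc : ∀ Q : Sylow p G, IsCyclic Q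
  ab : ∀ H : Subgroup G, ¬ p ∣ Nat.card H → IsMulCommutative H
  noComp : ¬ HasNormalPComplement p G
  notNormal : ∀ Q : Sylow p G, ¬ (Q : Subgroup G).Normal
  ih : ∀ H : Subgroup G, H ≠ ⊤ →
    HasNormalPComplement p H ∨ ∀ Q : Sylow p H, (Q : Subgroup H).Normal
  noCentral : ∀ k ∈ Subgroup.center G, Nat.Coprime (orderOf k) p → k = 1

omit [Finite G] hp in
/-- A `p`-element normalizing a Sylow `p`-subgroup lies in it. -/
theorem mem_sylow_of_mem_normalizer (Q : Sylow p G) {a : G}
    (ha : a ∈ normalizer ((Q : Subgroup G) : Set G)) {k : ℕ} (hk : a ^ p ^ k = 1) :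
    a ∈ (Q : Subgroup G) := by
  have h1 : IsPGroup p (zpowers a) := by
    rintro ⟨g, j, rfl⟩
    refine ⟨k, ?_⟩
    apply Subtype.ext
    show (a ^ j) ^ p ^ k = 1
    rw [← zpow_natCast, ← zpow_mul, mul_comm, zpow_mul, zpow_natCast, hk, one_zpow]
  have hle : zpowers a ≤ normalizer ((Q : Subgroup G) : Set G) := by
    rw [zpowers_le]; exact ha
  have h2 := h1.to_sup_of_normal_right' Q.2 hle
  have h3 : zpowers a ⊔ (Q : Subgroup G) = (Q : Subgroup G) := Q.3 h2 le_sup_right
  rw [← h3]
  exact mem_sup_left (mem_zpowers a)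

/-- Finite groups: an element conjugating a subgroup into itself normalizes it. -/
theorem mem_normalizer_of_conj_mem {H : Subgroup G} {y : G} (h : ∀ x ∈ H, y * x * y⁻¹ ∈ H) :
    y ∈ normalizer (H : Set G) := by
  rw [mem_normalizer_iff]
  intro x
  refine ⟨h x, fun hx => ?_⟩
  let f : H → H := fun a => ⟨y * a * y⁻¹, h a a.2⟩
  have hf : Function.Injective f := by
    intro a b hab
    have := congrArg Subtype.val hab
    simp only [f] at this
    apply Subtype.ext
    simpa using this
  obtain ⟨a, ha⟩ := (Finite.injective_iff_surjective.mp hf) ⟨_, hx⟩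
  have h1 : y * a * y⁻¹ = y * x * y⁻¹ := congrArg Subtype.val ha
  have h2 : (a : G) = x := by simpa using h1
  rw [← h2]
  exact a.2

omit [Finite G] hp in
theorem pow_card_sylow_eq_one (Q : Sylow p G) {x : G} (hx : x ∈ (Q : Subgroup G)) :
    ∃ k : ℕ, x ^ p ^ k = 1 := by
  obtain ⟨k, hk⟩ := Q.2 ⟨x, hx⟩
  exact ⟨k, by simpa using congrArg Subtype.val hk⟩

omit [Finite G] hp in
/-- The `p`-part of an element. -/
theorem coprime_eq_one {z : G} {k : ℕ} (hz : Nat.Coprime (orderOf z) p) (hk : z ^ p ^ k = 1) :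
    z = 1 := by
  have h1 : orderOf z ∣ p ^ k := orderOf_dvd_of_pow_eq_one hk
  have h2 : orderOf z = 1 := Nat.Coprime.eq_one_of_dvd (hz.pow_right k) h1
  exact orderOf_eq_one_iff.mp h2

omit [Finite G] in
theorem orderOf_conj' (y x : G) : orderOf (y * x * y⁻¹) = orderOf x := by
  have := orderOf_injective (MulAut.conj y).toMonoidHom (MulAut.conj y).injective x
  simpa using this

omit [Finite G] hp in
theorem exists_sylow_of_order (v : G) (hv : orderOf v = p) :
    ∃ Q : Sylow p G, v ∈ (Q : Subgroup G) := by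
  have h1 : IsPGroup p (zpowers v) :=
    Signal.Basic.isPGroup_zpowers_of_pow_eq_one (by rw [← hv]; exact pow_orderOf_eq_one v)
  obtain ⟨Q, hQ⟩ := h1.exists_le_sylow
  exact ⟨Q, hQ (mem_zpowers v)⟩

variable (S : Setup p G)
include S

/-- Elements of a Sylow subgroup commute. -/
theorem Setup.comm (Q : Sylow p G) {a b : G} (ha : a ∈ (Q : Subgroup G))
    (hb : b ∈ (Q : Subgroup G)) : a * b = b * a :=
  comm_of_isCyclic (S.cyc Q) ha hb

/-- There is an element acting nontrivially on the element `u` of order `p`. -/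
theorem Setup.exists_h (Q : Sylow p G) {u : G} (hu : u ∈ (Q : Subgroup G)) (huo : orderOf u = p) :
    ∃ h ∈ normalizer ((Q : Subgroup G) : Set G), Nat.Coprime (orderOf h) p ∧ ¬ Commute h u := by
  by_contra H
  push Not at H
  apply S.noComp
  have hN : normalizer ((Q : Subgroup G) : Set G) ≤ centralizer ((Q : Subgroup G) : Set G) := by
    intro y hy
    rw [mem_centralizer_iff]
    intro x hx
    obtain ⟨a, b, hab, -, ha, hb, ⟨k, hk⟩, hbo⟩ := exists_pPart_decomp (p := p) y
    have hzle : zpowers y ≤ normalizer ((Q : Subgroup G) : Set G) := by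
      rw [zpowers_le]; exact hy
    have haQ : a ∈ (Q : Subgroup G) := mem_sylow_of_mem_normalizer Q (hzle ha) hk
    have h1 : Commute a x := S.comm Q haQ hx
    have h2 : Commute b x :=
      commute_of_coprime_of_commute (S.cyc Q) Q.2 hu huo (hzle hb) hbo (H b (hzle hb) hbo) hx
    rw [hab]
    exact ((h1.mul_left h2).eq).symm
  exact ⟨Q, _, inferInstance, MonoidHom.ker_transferSylow_isComplement' Q hN⟩

/-- The structure of `C(u)` for an element `u` of order `p` in the Sylow subgroup `Q`. -/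
structure Loc (Q : Sylow p G) (u : G) (K : Subgroup G) : Prop where
  hu : u ∈ (Q : Subgroup G)
  huo : orderOf u = p
  memK : ∀ z, z ∈ K ↔ Commute z u ∧ Nat.Coprime (orderOf z) p
  split : ∀ y, Commute y u → ∃ z ∈ K, ∃ x ∈ (Q : Subgroup G), y = z * x
  commK : ∀ z ∈ K, ∀ x ∈ (Q : Subgroup G), Commute z x

/-- A conjugate of `u` by a normalizer element is again a generator of `⟨u⟩`. -/
theorem Setup.conj_mem_zpowers (Q : Sylow p G) {u y : G} (hu : u ∈ (Q : Subgroup G))
    (huo : orderOf u = p) (hy : y ∈ normalizer ((Q : Subgroup G) : Set G)) :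
    y * u * y⁻¹ ∈ zpowers u := by
  have h1 : y * u * y⁻¹ ∈ (Q : Subgroup G) := (mem_normalizer_iff.mp hy u).mp hu
  refine mem_zpowers_of_pow_eq_one (S.cyc Q) hu huo h1 ?_
  have := pow_orderOf_eq_one (y * u * y⁻¹)
  rwa [orderOf_conj', huo] at this

/-- Conjugates of an order-`p` element generate the same subgroup, if they are in `Q`. -/
theorem Setup.mem_zpowers_of_conj_mem (Q : Sylow p G) {u w : G} (hu : u ∈ (Q : Subgroup G))
    (huo : orderOf u = p) (hw : w ∈ (Q : Subgroup G)) (hw1 : w ≠ 1) : u ∈ zpowers w :=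
  mem_zpowers_of_ne_one (S.cyc Q) Q.2 hu huo hw hw1

theorem Setup.exists_loc (Q : Sylow p G) {u : G} (hu : u ∈ (Q : Subgroup G))
    (huo : orderOf u = p) : ∃ K, Loc Q u K := by
  obtain ⟨h, hhN, hho, hhu⟩ := S.exists_h Q hu huo
  let C : Subgroup G := centralizer ({u} : Set G)
  have hmemC : ∀ y, y ∈ C ↔ Commute y u := by
    intro y
    simp only [C, mem_centralizer_singleton_iff]
    exact Iff.rfl
  have hQC : (Q : Subgroup G) ≤ C := fun x hx => (hmemC x).mpr (S.comm Q hx hu)
  have hC : HasNormalPComplement p C := by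
    apply burnside_sub C Q hQC
    intro y hyC hyN x hx
    obtain ⟨a, b, hab, -, ha, hb, ⟨k, hk⟩, hbo⟩ := exists_pPart_decomp (p := p) y
    have hzle : zpowers y ≤ normalizer ((Q : Subgroup G) : Set G) := by
      rw [zpowers_le]; exact hyN
    have hzC : zpowers y ≤ C := by rw [zpowers_le]; exact hyC
    have haQ : a ∈ (Q : Subgroup G) := mem_sylow_of_mem_normalizer Q (hzle ha) hk
    have h1 : Commute a x := S.comm Q haQ hx
    have h2 : Commute b x :=
      commute_of_coprime_of_commute (S.cyc Q) Q.2 hu huo (hzle hb) hbo ((hmemC b).mp (hzC hb)) hx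
    rw [hab]
    exact h1.mul_left h2
  let K : Subgroup G := (pResidual p C).map C.subtype
  have hmemK : ∀ z, z ∈ K ↔ Commute z u ∧ Nat.Coprime (orderOf z) p := by
    intro z
    constructor
    · rintro ⟨z', hz', rfl⟩
      refine ⟨(hmemC _).mp z'.2, ?_⟩
      have := (mem_pResidual_iff_of_hasNormalPComplement hC z').mp hz'
      simpa using this
    · rintro ⟨h1, h2⟩
      have hzC : z ∈ C := (hmemC z).mpr h1
      refine ⟨⟨z, hzC⟩, ?_, rfl⟩
      apply (mem_pResidual_iff_of_hasNormalPComplement hC _).mpr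
      simpa using h2
  refine ⟨K, hu, huo, hmemK, ?_, ?_⟩
  · intro y hy
    let Q' : Sylow p C := Q.subtype hQC
    have hc := isComplement'_pResidual hC Q'
    have htop : (⟨y, (hmemC y).mpr hy⟩ : C) ∈ pResidual p C ⊔ (Q' : Subgroup C) := by
      rw [hc.sup_eq_top]; exact mem_top _
    obtain ⟨l, hl, x, hx, hlx⟩ := mem_sup_of_normal_left.mp htop
    refine ⟨(l : G), ⟨l, hl, rfl⟩, (x : G), ?_, ?_⟩
    · have : x ∈ (Q : Subgroup G).subgroupOf C := by
        rw [← Sylow.coe_subtype]; exact hx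
      exact mem_subgroupOf.mp this
    · exact (congrArg Subtype.val hlx).symm
  · -- `K` is normalized by the normalizer of `Q`
    have hconj : ∀ y ∈ normalizer ((Q : Subgroup G) : Set G), ∀ z ∈ K, y * z * y⁻¹ ∈ K := by
      intro y hy z hz
      obtain ⟨h1, h2⟩ := (hmemK z).mp hz
      refine (hmemK _).mpr ⟨?_, by rwa [orderOf_conj']⟩
      have hyu : y * u * y⁻¹ ∈ (Q : Subgroup G) := (mem_normalizer_iff.mp hy u).mp hu
      have hne : y * u * y⁻¹ ≠ 1 := by
        intro h
        have h3 : orderOf (y * u * y⁻¹) = 1 := orderOf_eq_one_iff.mpr h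
        rw [orderOf_conj', huo] at h3
        exact hp.out.ne_one h3
      obtain ⟨j, hj⟩ := S.mem_zpowers_of_conj_mem Q hu huo hyu hne
      simp only at hj
      rw [← hj]
      apply Commute.zpow_right
      have : Commute (MulAut.conj y z) (MulAut.conj y u) := h1.map _
      simpa using this
    have hKp : ¬ p ∣ Nat.card K :=
      not_dvd_card_of_forall_coprime fun a ha => ((hmemK a).mp ha).2
    have hhK : ∀ z ∈ K, Commute h z := by
      intro z hz
      exact commute_of_normalizes hKp hho (mem_normalizer_of_conj_mem (hconj h hhN)) S.ab hz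
    intro z hz x hx
    have hA : ∀ a ∈ (K : Set G), ∀ x ∈ (Q : Subgroup G), x * a * x⁻¹ ∈ (K : Set G) :=
      fun a ha x hx => hconj x (le_normalizer hx) a ha
    exact (commute_of_commute_set (S.cyc Q) Q.2 hu huo hhN hhu hA hhK hx hz).symm

namespace Loc

variable {Q : Sylow p G} {u : G} {K : Subgroup G}

omit S [Finite G] hp in
/-- The `p`-elements of `C(u)` are in `Q`. -/
theorem mem_of_commute (L : Loc Q u K) {y : G} (hy : Commute y u) {k : ℕ} (hk : y ^ p ^ k = 1) :
    y ∈ (Q : Subgroup G) := by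
  obtain ⟨z, hz, x, hx, rfl⟩ := L.split y hy
  obtain ⟨m, hm⟩ := pow_card_sylow_eq_one Q hx
  have hzx := L.commK z hz x hx
  have h1 : z ^ p ^ (k + m) = 1 := by
    have h2 : (z * x) ^ p ^ (k + m) = 1 := by
      rw [pow_add, pow_mul, hk, one_pow]
    rw [hzx.mul_pow] at h2
    have h3 : x ^ p ^ (k + m) = 1 := by
      rw [pow_add, mul_comm, pow_mul, hm, one_pow]
    rwa [h3, mul_one] at h2
  have h4 : z = 1 := coprime_eq_one ((L.memK z).mp hz).2 h1
  rw [h4, one_mul]
  exact hx

include S in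
/-- `y` normalizes `Q` as soon as it normalizes `⟨u⟩`. -/
theorem mem_normalizer_of_conj (L : Loc Q u K) {y : G} (hy : y * u * y⁻¹ ∈ zpowers u) :
    y ∈ normalizer ((Q : Subgroup G) : Set G) := by
  apply mem_normalizer_of_conj_mem
  intro x hx
  have hyu : y * u * y⁻¹ ∈ (Q : Subgroup G) := by
    obtain ⟨j, hj⟩ := hy
    simp only at hj
    rw [← hj]
    exact (Q : Subgroup G).zpow_mem L.hu j
  have hne : y * u * y⁻¹ ≠ 1 := by
    intro h
    have h3 : orderOf (y * u * y⁻¹) = 1 := orderOf_eq_one_iff.mpr h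
    rw [orderOf_conj', L.huo] at h3
    exact hp.out.ne_one h3
  obtain ⟨j, hj⟩ := S.mem_zpowers_of_conj_mem Q L.hu L.huo hyu hne
  simp only at hj
  have h1 : Commute (y * x * y⁻¹) u := by
    rw [← hj]
    apply Commute.zpow_right
    have h2 : Commute x u := S.comm Q hx L.hu
    have : Commute (MulAut.conj y x) (MulAut.conj y u) := h2.map _
    simpa using this
  obtain ⟨m, hm⟩ := pow_card_sylow_eq_one Q hx
  apply L.mem_of_commute h1 (k := m)
  rw [conj_pow, hm]
  simp

include S in
/-- `K` is central in the normalizer of `Q`. -/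
theorem commute_of_mem_normalizer (L : Loc Q u K) {y z : G}
    (hy : y ∈ normalizer ((Q : Subgroup G) : Set G)) (hz : z ∈ K) : Commute y z := by
  obtain ⟨a, b, hab, -, ha, hb, ⟨k, hk⟩, hbo⟩ := exists_pPart_decomp (p := p) y
  have hzle : zpowers y ≤ normalizer ((Q : Subgroup G) : Set G) := by
    rw [zpowers_le]; exact hy
  have haQ : a ∈ (Q : Subgroup G) := mem_sylow_of_mem_normalizer Q (hzle ha) hk
  have h1 : Commute a z := (L.commK z hz a haQ).symm
  have hconj : ∀ y ∈ normalizer ((Q : Subgroup G) : Set G), ∀ z ∈ K, y * z * y⁻¹ ∈ K := by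
    intro y hy z hz
    obtain ⟨h1, h2⟩ := (L.memK z).mp hz
    refine (L.memK _).mpr ⟨?_, by rwa [orderOf_conj']⟩
    have hyu : y * u * y⁻¹ ∈ (Q : Subgroup G) := (mem_normalizer_iff.mp hy u).mp L.hu
    have hne : y * u * y⁻¹ ≠ 1 := by
      intro h
      have h3 : orderOf (y * u * y⁻¹) = 1 := orderOf_eq_one_iff.mpr h
      rw [orderOf_conj', L.huo] at h3
      exact hp.out.ne_one h3
    obtain ⟨j, hj⟩ := S.mem_zpowers_of_conj_mem Q L.hu L.huo hyu hne
    simp only at hj
    rw [← hj]
    apply Commute.zpow_right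
    have : Commute (MulAut.conj y z) (MulAut.conj y u) := h1.map _
    simpa using this
  have hKp : ¬ p ∣ Nat.card K :=
    not_dvd_card_of_forall_coprime fun a ha => ((L.memK a).mp ha).2
  have h2 : Commute b z :=
    commute_of_normalizes hKp hbo (mem_normalizer_of_conj_mem (hconj b (hzle hb))) S.ab hz
  rw [hab]
  exact h1.mul_left h2

include S in
/-- The centralizer of a nontrivial element of `K` is in the normalizer of `Q`. -/
theorem mem_normalizer_of_commute (L : Loc Q u K) {y z : G} (hz : z ∈ K) (hz1 : z ≠ 1)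
    (hy : Commute y z) : y ∈ normalizer ((Q : Subgroup G) : Set G) := by
  let H : Subgroup G := centralizer ({z} : Set G)
  have hmemH : ∀ y, y ∈ H ↔ Commute y z := by
    intro y
    simp only [H, mem_centralizer_singleton_iff]
    exact Iff.rfl
  have hQH : (Q : Subgroup G) ≤ H := fun x hx => (hmemH x).mpr (L.commK z hz x hx).symm
  have hNH : normalizer ((Q : Subgroup G) : Set G) ≤ H := fun y hy =>
    (hmemH y).mpr (L.commute_of_mem_normalizer S hy hz)
  have hne : H ≠ ⊤ := by
    intro htop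
    apply hz1
    apply S.noCentral z ?_ ((L.memK z).mp hz).2
    rw [mem_center_iff]
    intro g
    exact ((hmemH g).mp (htop ▸ mem_top g)).eq
  let Q' : Sylow p H := Q.subtype hQH
  have hQ' : ∀ a : H, a ∈ (Q' : Subgroup H) ↔ (a : G) ∈ (Q : Subgroup G) := by
    intro a
    rw [Sylow.coe_subtype, mem_subgroupOf]
  rcases S.ih H hne with h1 | h1
  · exfalso
    obtain ⟨h, hhN, hho, hhu⟩ := S.exists_h Q L.hu L.huo
    apply hhu
    have h2 := Cfsg.Agent.Lib.Transfer.Frobenius.frobeniusCond_of_hasNormalPComplement h1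
    have hD : IsPGroup p (Q' : Subgroup H) := Q'.2
    have hhN' : (⟨h, hNH hhN⟩ : H) ∈ normalizer ((Q' : Subgroup H) : Set H) := by
      rw [mem_normalizer_iff]
      intro a
      rw [hQ', hQ']
      exact (mem_normalizer_iff.mp hhN a)
    have h3 := h2 (Q' : Subgroup H) hD ⟨h, hNH hhN⟩ hhN' (by simpa using hho)
    rw [mem_centralizer_iff] at h3
    have h4 := h3 ⟨u, hQH L.hu⟩ ((hQ' _).mpr L.hu)
    exact (congrArg Subtype.val h4).symm
  · have h2 := h1 Q'
    have hyH : y ∈ H := (hmemH y).mpr hy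
    rw [mem_normalizer_iff]
    intro a
    constructor
    · intro ha
      have := h2.conj_mem ⟨a, hQH ha⟩ ((hQ' _).mpr ha) ⟨y, hyH⟩
      exact (hQ' _).mp this
    · intro ha
      have h3 : y⁻¹ * (y * a * y⁻¹) * y = a := by group
      have := h2.conj_mem ⟨_, hQH ha⟩ ((hQ' _).mpr ha) ⟨y⁻¹, H.inv_mem hyH⟩
      have h4 : y⁻¹ * (y * a * y⁻¹) * (y⁻¹)⁻¹ ∈ (Q : Subgroup G) := (hQ' _).mp this
      rw [inv_inv, h3] at h4
      exact h4

include S in
/-- Trivial intersection: a nontrivial element of `K` determines `Q`. -/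
theorem le_of_mem_of_mem {Q₂ : Sylow p G} {u₂ : G} {K₂ : Subgroup G} (L : Loc Q u K)
    (L₂ : Loc Q₂ u₂ K₂) {z : G} (hz : z ∈ K) (hz₂ : z ∈ K₂) (hz1 : z ≠ 1) :
    (Q : Subgroup G) ≤ (Q₂ : Subgroup G) := by
  intro x hx
  have h1 : Commute x z := (L.commK z hz x hx).symm
  have h2 := L₂.mem_normalizer_of_commute S hz₂ hz1 h1
  obtain ⟨m, hm⟩ := pow_card_sylow_eq_one Q hx
  exact mem_sylow_of_mem_normalizer Q₂ h2 hm

end Loc

end Cfsg.Agent.Lib.CyclicSylow
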