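import Cfsg.Agent.Lib.CyclicSylow.Step6

/-!
# Cyclic Sylow subgroups, abelian `p'`-subgroups: the dichotomy
-/

set_option autoImplicit false

namespace Cfsg.Agent.Lib.CyclicSylow

open Cfsg Subgroup Cfsg.Agent.Lib.Transfer.Basic Cfsg.Agent.Lib.CyclicSylow.Basic

universe u

variable {G : Type u} [Group G] [Finite G] {p : ℕ} [hp : Fact p.Prime]

omit hp in
theorem cyc_sub [hp : Fact p.Prime] (hc : ∀ Q : Sylow p G, IsCyclic Q) (H : Subgroup G) (Q' : Sylow p H) :
    IsCyclic Q' := by
  have h1 : IsPGroup p ((Q' : Subgroup H).map H.subtype) := Q'.2.map _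
  obtain ⟨Q, hQ⟩ := h1.exists_le_sylow
  haveI := hc Q
  let f : (Q' : Subgroup H) →* (Q : Subgroup G) :=
    (H.subtype.comp (Q' : Subgroup H).subtype).codRestrict (Q : Subgroup G)
      (fun x => hQ ⟨x, x.2, rfl⟩)
  have hf : Function.Injective f := by
    intro a b hab
    have h2 : ((a : H) : G) = ((b : H) : G) :=
      congrArg (fun x : (Q : Subgroup G) => (x : G)) hab
    exact Subtype.ext (Subtype.ext h2)
  exact isCyclic_of_injective f hf

omit hp [Finite G] in
theorem ab_sub (hab : ∀ H : Subgroup G, ¬ p ∣ Nat.card H → IsMulCommutative H) (H : Subgroup G)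
    (A : Subgroup H) (hA : ¬ p ∣ Nat.card A) : IsMulCommutative A := by
  have h1 : Nat.card (A.map H.subtype) = Nat.card A :=
    Nat.card_congr (A.equivMapOfInjective _ H.subtype_injective).toEquiv.symm
  have h2 := hab (A.map H.subtype) (by rw [h1]; exact hA)
  refine ⟨⟨fun a b => ?_⟩⟩
  have hak : ((a : H) : G) ∈ A.map H.subtype := ⟨a, a.2, rfl⟩
  have hbk : ((b : H) : G) ∈ A.map H.subtype := ⟨b, b.2, rfl⟩
  have h3 : (⟨_, hak⟩ : A.map H.subtype) * ⟨_, hbk⟩ = ⟨_, hbk⟩ * ⟨_, hak⟩ := mul_comm' _ _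
  have h4 : ((a : H) : G) * ((b : H) : G) = ((b : H) : G) * ((a : H) : G) :=
    congrArg (fun x : A.map H.subtype => (x : G)) h3
  exact Subtype.ext (Subtype.ext h4)

section quotient

variable (k : G) (hk : k ∈ center G) (hkc : Nat.Coprime (orderOf k) p)

omit [Finite G] in
/-- The central subgroup generated by `k` is normal. -/
theorem normal_zpowers_of_center (hk : k ∈ center G) : (zpowers k).Normal := by
  constructor
  rintro _ ⟨j, rfl⟩ g
  have h1 : Commute g k := mem_center_iff.mp hk g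
  have : Commute g (k ^ j) := h1.zpow_right j
  show g * k ^ j * g⁻¹ ∈ zpowers k
  rw [this.eq, mul_inv_cancel_right]
  exact zpow_mem (mem_zpowers k) j

include hkc in
omit [Finite G] hp in
theorem coprime_of_mem_zpowers {z : G} (hz : z ∈ zpowers k) : Nat.Coprime (orderOf z) p := by
  obtain ⟨j, rfl⟩ := hz
  apply Nat.Coprime.coprime_dvd_left _ hkc
  exact orderOf_dvd_of_pow_eq_one (by
    show (k ^ j) ^ orderOf k = 1
    rw [← zpow_natCast, ← zpow_mul, mul_comm, zpow_mul, zpow_natCast, pow_orderOf_eq_one, one_zpow])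

include hkc in
/-- Subgroups of `p'`-order of the quotient pull back to subgroups of `p'`-order. -/
theorem not_dvd_card_comap (hn : (zpowers k).Normal) (A : Subgroup (G ⧸ zpowers k))
    (hA : ¬ p ∣ Nat.card A) : ¬ p ∣ Nat.card (A.comap (QuotientGroup.mk' (zpowers k))) := by
  intro hd
  obtain ⟨t, ht⟩ := exists_prime_orderOf_dvd_card' (G := A.comap (QuotientGroup.mk' (zpowers k))) p hd
  have ht' : orderOf (t : G) = p := (Subgroup.orderOf_coe t).trans ht
  have h1 : QuotientGroup.mk' (zpowers k) (t : G) ∈ A := t.2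
  have h2 : (QuotientGroup.mk' (zpowers k) (t : G)) ^ p = 1 := by
    rw [← map_pow, ← ht', pow_orderOf_eq_one, map_one]
  have h3 : QuotientGroup.mk' (zpowers k) (t : G) ≠ 1 := by
    intro h
    have h4 : (t : G) ∈ zpowers k := (QuotientGroup.eq_one_iff _).mp h
    have h5 := coprime_of_mem_zpowers k hkc h4
    rw [ht'] at h5
    exact hp.out.ne_one ((Nat.coprime_self p).mp h5)
  have h6 : orderOf (⟨_, h1⟩ : A) = p := by
    have h7 : orderOf (QuotientGroup.mk' (zpowers k) (t : G)) = p := orderOf_eq_prime h2 h3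
    rw [← h7]
    exact Subgroup.orderOf_mk _ h1
  apply hA
  rw [← h6]
  exact orderOf_dvd_natCard _

include hkc in
theorem ab_quot (hn : (zpowers k).Normal)
    (hab : ∀ H : Subgroup G, ¬ p ∣ Nat.card H → IsMulCommutative H)
    (A : Subgroup (G ⧸ zpowers k)) (hA : ¬ p ∣ Nat.card A) : IsMulCommutative A := by
  have h1 := hab _ (not_dvd_card_comap k hkc hn A hA)
  refine ⟨⟨fun a b => ?_⟩⟩
  obtain ⟨x, hx⟩ := QuotientGroup.mk'_surjective (zpowers k) (a : G ⧸ zpowers k)
  obtain ⟨y, hy⟩ := QuotientGroup.mk'_surjective (zpowers k) (b : G ⧸ zpowers k)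
  have hx' : x ∈ A.comap (QuotientGroup.mk' (zpowers k)) := by
    show QuotientGroup.mk' (zpowers k) x ∈ A
    rw [hx]
    exact a.2
  have hy' : y ∈ A.comap (QuotientGroup.mk' (zpowers k)) := by
    show QuotientGroup.mk' (zpowers k) y ∈ A
    rw [hy]
    exact b.2
  have h2 : (⟨x, hx'⟩ : A.comap (QuotientGroup.mk' (zpowers k))) * ⟨y, hy'⟩ = ⟨y, hy'⟩ * ⟨x, hx'⟩ :=
    mul_comm' _ _
  have h3 : x * y = y * x := congrArg Subtype.val h2
  apply Subtype.ext
  show (a : G ⧸ zpowers k) * b = b * a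
  rw [← hx, ← hy, ← map_mul, ← map_mul, h3]

omit hp [Finite G] in
theorem cyc_quot [Finite G] [hp : Fact p.Prime] (hn : (zpowers k).Normal)
    (hc : ∀ Q : Sylow p G, IsCyclic Q) (Q : Sylow p (G ⧸ zpowers k)) : IsCyclic Q := by
  obtain ⟨Q₁, rfl⟩ := Sylow.mapSurjective_surjective (QuotientGroup.mk'_surjective (zpowers k)) p Q
  haveI := hc Q₁
  rw [Sylow.coe_mapSurjective]
  have : IsCyclic ((Q₁ : Subgroup G).map (QuotientGroup.mk' (zpowers k))) :=
    isCyclic_of_surjective ((QuotientGroup.mk' (zpowers k)).subgroupMap (Q₁ : Subgroup G))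
      ((QuotientGroup.mk' (zpowers k)).subgroupMap_surjective _)
  exact this

include hkc in
theorem lift_comp (hn : (zpowers k).Normal) (h : HasNormalPComplement p (G ⧸ zpowers k)) :
    HasNormalPComplement p G := by
  obtain ⟨N, hN, h1, h2⟩ := hasNormalPComplement_iff_exists.mp h
  refine hasNormalPComplement_iff_exists.mpr ⟨N.comap (QuotientGroup.mk' (zpowers k)), inferInstance,
    ?_, ?_⟩
  · have h3 : ¬ p ∣ Nat.card N := fun hd => hp.out.ne_one (Nat.Coprime.eq_one_of_dvd h1.symm hd)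
    have h4 := not_dvd_card_comap k hkc hn N h3
    exact ((Nat.Prime.coprime_iff_not_dvd hp.out).mpr h4).symm
  · intro x
    obtain ⟨g, rfl⟩ := QuotientGroup.mk'_surjective _ x
    obtain ⟨m, hm⟩ := h2 (QuotientGroup.mk' N (QuotientGroup.mk' (zpowers k) g))
    refine ⟨m, ?_⟩
    have hm' : (QuotientGroup.mk' N (QuotientGroup.mk' (zpowers k) g)) ^ p ^ m = 1 := hm
    rw [← map_pow, ← map_pow] at hm'
    have h5 : QuotientGroup.mk' (zpowers k) (g ^ p ^ m) ∈ N := (QuotientGroup.eq_one_iff _).mp hm'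
    show (QuotientGroup.mk' _ g) ^ p ^ m = 1
    rw [← map_pow]
    exact (QuotientGroup.eq_one_iff _).mpr h5

include hk hkc in
theorem lift_normal (hn : (zpowers k).Normal)
    (h : ∀ Q : Sylow p (G ⧸ zpowers k), (Q : Subgroup (G ⧸ zpowers k)).Normal) (Q : Sylow p G) :
    (Q : Subgroup G).Normal := by
  have hsurj := QuotientGroup.mk'_surjective (zpowers k)
  have h1 := h (Q.mapSurjective hsurj)
  rw [Sylow.coe_mapSurjective] at h1
  constructor
  intro x hx g
  have h2 : QuotientGroup.mk' (zpowers k) (g * x * g⁻¹) ∈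
      (Q : Subgroup G).map (QuotientGroup.mk' (zpowers k)) := by
    rw [map_mul, map_mul, map_inv]
    exact h1.conj_mem _ ⟨x, hx, rfl⟩ _
  obtain ⟨x', hx', he⟩ := h2
  have h3 : x'⁻¹ * (g * x * g⁻¹) ∈ zpowers k := by
    have : QuotientGroup.mk' (zpowers k) (x'⁻¹ * (g * x * g⁻¹)) = 1 := by
      rw [map_mul, map_inv, he, inv_mul_cancel]
    exact (QuotientGroup.eq_one_iff _).mp this
  set z := x'⁻¹ * (g * x * g⁻¹) with hz
  have hzc : z ∈ center G := by
    obtain ⟨j, hj⟩ := h3
    simp only at hj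
    rw [← hj]
    exact zpow_mem hk j
  have hcomm : Commute x' z := (mem_center_iff.mp hzc x').symm.symm
  have he2 : g * x * g⁻¹ = x' * z := by rw [hz]; group
  obtain ⟨m₁, hm₁⟩ := pow_card_sylow_eq_one Q hx
  obtain ⟨m₂, hm₂⟩ := pow_card_sylow_eq_one Q hx'
  have h4 : z ^ p ^ (m₁ + m₂) = 1 := by
    have h5 : (x' * z) ^ p ^ (m₁ + m₂) = 1 := by
      rw [← he2, conj_pow, pow_add, pow_mul, hm₁]
      simp
    rw [hcomm.mul_pow] at h5
    have h6 : x' ^ p ^ (m₁ + m₂) = 1 := by
      rw [pow_add, mul_comm, pow_mul, hm₂, one_pow]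
    rwa [h6, one_mul] at h5
  have h7 : z = 1 := coprime_eq_one (coprime_of_mem_zpowers k hkc h3) h4
  rw [he2, h7, mul_one]
  exact hx'

end quotient

/-- The dichotomy, by induction on the order. -/
theorem dichotomy_aux (n : ℕ) : ∀ (G : Type u) [Group G] [Finite G], Nat.card G = n →
    (∀ Q : Sylow p G, IsCyclic Q) →
    (∀ H : Subgroup G, ¬ p ∣ Nat.card H → IsMulCommutative H) →
    HasNormalPComplement p G ∨ ∀ Q : Sylow p G, (Q : Subgroup G).Normal := by
  induction n using Nat.strong_induction_on with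
  | _ n ih =>
    intro G _ _ hn hc hab
    by_contra H
    push Not at H
    obtain ⟨h1, Q₀, hQ₀⟩ := H
    have hnn : ∀ Q : Sylow p G, ¬ (Q : Subgroup G).Normal := by
      intro Q hQ
      have := Sylow.unique_of_normal Q hQ
      apply hQ₀
      rwa [Subsingleton.elim Q₀ Q]
    refine Setup.false (p := p) (G := G) ⟨hc, hab, h1, hnn, ?_, ?_⟩
    · intro H hH
      have hlt : Nat.card H < n := by
        rw [← hn]
        apply lt_of_le_of_ne (Subgroup.card_le_card_group H)
        intro h2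
        exact hH (Subgroup.eq_top_of_card_eq H h2)
      exact ih _ hlt H rfl (cyc_sub hc H) (ab_sub hab H)
    · intro k hk hkc
      by_contra hk1
      have hZ := normal_zpowers_of_center k hk
      have hlt : Nat.card (G ⧸ zpowers k) < n := by
        rw [← hn]
        have h2 : Nat.card G = Nat.card (G ⧸ zpowers k) * Nat.card (zpowers k) :=
          Subgroup.card_eq_card_quotient_mul_card_subgroup _
        rw [h2, Nat.card_zpowers]
        have h3 : 1 < orderOf k := by
          have h4 := orderOf_pos k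
          have h5 : orderOf k ≠ 1 := fun h => hk1 (orderOf_eq_one_iff.mp h)
          omega
        have h6 : 0 < Nat.card (G ⧸ zpowers k) := Nat.card_pos
        nlinarith
      rcases ih _ hlt (G ⧸ zpowers k) rfl (cyc_quot k hZ hc) (ab_quot k hkc hZ hab) with h2 | h2
      · exact h1 (lift_comp k hkc hZ h2)
      · exact hQ₀ (lift_normal k hk hkc hZ h2 Q₀)

/-- The dichotomy. -/
theorem dichotomy (P : Sylow p G) (hcyc : IsCyclic P)
    (hab : ∀ H : Subgroup G, ¬ p ∣ Nat.card H → IsMulCommutative H) :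
    HasNormalPComplement p G ∨ (P : Subgroup G).Normal := by
  have hc : ∀ Q : Sylow p G, IsCyclic Q := fun Q =>
    isCyclic_of_surjective (Sylow.equiv P Q).toMonoidHom (Sylow.equiv P Q).surjective
  rcases dichotomy_aux (p := p) _ G rfl hc hab with h | h
  · exact Or.inl h
  · exact Or.inr (h P)

end Cfsg.Agent.Lib.CyclicSylow
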