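import Cfsg.Agent.Lib.CyclicSylow.Local

/-!
# Cyclic Sylow subgroups: Burnside for other primes; the case of a trivial `K`
-/

set_option autoImplicit false

namespace Cfsg.Agent.Lib.CyclicSylow

open Cfsg Subgroup Cfsg.Agent.Lib.Transfer.Basic Cfsg.Agent.Lib.CyclicSylow.Basic

universe u

variable {G : Type u} [Group G] [Finite G] {p : ℕ} [hp : Fact p.Prime]

omit hp in
/-- Sylow subgroups are conjugate, elementwise. -/
theorem exists_conj_mem {r : ℕ} [Fact r.Prime] (Q R : Sylow r G) {t : G}
    (ht : t ∈ (Q : Subgroup G)) : ∃ g : G, g * t * g⁻¹ ∈ (R : Subgroup G) := by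
  obtain ⟨g, rfl⟩ := MulAction.exists_smul_eq G Q R
  refine ⟨g, ?_⟩
  rw [Sylow.smul_def, Sylow.pointwise_smul_def]
  exact Subgroup.smul_mem_pointwise_smul t (MulAut.conj g) _ ht

omit hp in
theorem not_dvd_card_of_sylow {r : ℕ} [Fact r.Prime] (hrp : r ≠ p) [hp : Fact p.Prime]
    (R : Sylow r G) :
    ¬ p ∣ Nat.card R := by
  intro hd
  obtain ⟨k, hk⟩ := IsPGroup.iff_card.mp R.2
  rw [hk] at hd
  exact hrp ((Nat.prime_dvd_prime_iff_eq hp.out Fact.out).mp (hp.out.dvd_of_dvd_pow hd)).symm

omit [Finite G] hp in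
theorem orderOf_coprime_of_mem {r : ℕ} [Fact r.Prime] (hrp : r ≠ p) [hp : Fact p.Prime]
    (R : Sylow r G) {y : G} (hy : y ∈ (R : Subgroup G)) : Nat.Coprime (orderOf y) p := by
  obtain ⟨k, hk⟩ := IsPGroup.iff_orderOf.mp R.2 ⟨y, hy⟩
  have : orderOf y = r ^ k := by rw [← hk]; exact (Subgroup.orderOf_mk y hy).symm
  rw [this]
  apply Nat.Coprime.pow_left
  exact (Nat.coprime_primes Fact.out hp.out).mpr hrp

variable (S : Setup p G)
include S

theorem Setup.exists_order (Q : Sylow p G) : ∃ u ∈ (Q : Subgroup G), orderOf u = p := by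
  have hd : p ∣ Nat.card Q := by
    obtain ⟨k, hk⟩ := IsPGroup.iff_card.mp Q.2
    rw [hk]
    rcases Nat.eq_zero_or_pos k with rfl | h
    · exfalso
      apply S.notNormal Q
      have : (Q : Subgroup G) = ⊥ := by
        rw [pow_zero] at hk
        exact Subgroup.card_eq_one.mp hk
      rw [this]
      infer_instance
    · exact dvd_pow_self p h.ne'
  obtain ⟨a, ha⟩ := exists_prime_orderOf_dvd_card' (G := Q) p hd
  exact ⟨a, a.2, (Subgroup.orderOf_coe a).trans ha⟩

/-- If a prime `r ≠ p` divides `|G|`, a `p`-element moves a Sylow `r`-subgroup. -/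
theorem Setup.exists_move {r : ℕ} [Fact r.Prime] (hrp : r ≠ p) (R : Sylow r G)
    (hr : r ∣ Nat.card G) :
    ∃ x ∈ normalizer ((R : Subgroup G) : Set G), (∃ k : ℕ, x ^ p ^ k = 1) ∧
      ∃ y ∈ (R : Subgroup G), ¬ Commute x y := by
  by_contra H
  push Not at H
  have hRp : ¬ p ∣ Nat.card R := not_dvd_card_of_sylow hrp R
  have hN : normalizer ((R : Subgroup G) : Set G) ≤ centralizer ((R : Subgroup G) : Set G) := by
    intro y hy
    rw [mem_centralizer_iff]
    intro x hx
    obtain ⟨a, b, hab, -, ha, hb, hk, hbo⟩ := exists_pPart_decomp (p := p) y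
    have hzle : zpowers y ≤ normalizer ((R : Subgroup G) : Set G) := by
      rw [zpowers_le]; exact hy
    have h1 : Commute a x := H a (hzle ha) hk x hx
    have h2 : Commute b x := commute_of_normalizes hRp hbo (hzle hb) S.ab hx
    rw [hab]
    exact ((h1.mul_left h2).eq).symm
  have hC : HasNormalPComplement r G :=
    ⟨R, _, inferInstance, MonoidHom.ker_transferSylow_isComplement' R hN⟩
  let M : Subgroup G := pResidual r G
  have hMn : M.Normal := inferInstance
  have hmemM : ∀ z, z ∈ M ↔ Nat.Coprime (orderOf z) r :=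
    mem_pResidual_iff_of_hasNormalPComplement hC
  have hMtop : M ≠ ⊤ := by
    intro h
    have h1 := (hasNormalPComplement_iff_pResidual.mp hC)
    have h2 : Nat.card M = Nat.card G := by
      show Nat.card (pResidual r G : Subgroup G) = _
      rw [show pResidual r G = ⊤ from h]
      exact Subgroup.card_top
    have h3 : Nat.Coprime (Nat.card G) r := by rw [← h2]; exact h1
    exact (Fact.out : r.Prime).one_lt.ne' (Nat.Coprime.eq_one_of_dvd h3.symm hr)
  obtain ⟨Q⟩ : Nonempty (Sylow p G) := inferInstance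
  have hQM : (Q : Subgroup G) ≤ M := by
    intro x hx
    apply (hmemM x).mpr
    exact (orderOf_coprime_of_mem (p := r) (Ne.symm hrp) Q hx)
  have hMN : M ≤ normalizer ((Q : Subgroup G) : Set G) := by
    let Q' : Sylow p M := Q.subtype hQM
    have hQ' : ∀ a : M, a ∈ (Q' : Subgroup M) ↔ (a : G) ∈ (Q : Subgroup G) := by
      intro a
      rw [Sylow.coe_subtype, mem_subgroupOf]
    rcases S.ih M hMtop with h1 | h1
    · -- `M` has a normal `p`-complement
      let L : Subgroup G := (pResidual p M).map M.subtype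
      have hmemL : ∀ z, z ∈ L ↔ z ∈ M ∧ Nat.Coprime (orderOf z) p := by
        intro z
        constructor
        · rintro ⟨z', hz', rfl⟩
          refine ⟨z'.2, ?_⟩
          have := (mem_pResidual_iff_of_hasNormalPComplement h1 z').mp hz'
          simpa using this
        · rintro ⟨h2, h3⟩
          refine ⟨⟨z, h2⟩, ?_, rfl⟩
          apply (mem_pResidual_iff_of_hasNormalPComplement h1 _).mpr
          simpa using h3
      have hconj : ∀ y : G, ∀ z ∈ L, y * z * y⁻¹ ∈ L := by
        intro y z hz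
        obtain ⟨h2, h3⟩ := (hmemL z).mp hz
        exact (hmemL _).mpr ⟨hMn.conj_mem z h2 y, by rwa [orderOf_conj']⟩
      have hLp : ¬ p ∣ Nat.card L :=
        not_dvd_card_of_forall_coprime fun a ha => ((hmemL a).mp ha).2
      obtain ⟨u, hu, huo⟩ := S.exists_order Q
      obtain ⟨h, hhN, hho, hhu⟩ := S.exists_h Q hu huo
      have hhL : ∀ z ∈ L, Commute h z := fun z hz =>
        commute_of_normalizes hLp hho (mem_normalizer_of_conj_mem (hconj h)) S.ab hz
      have hA : ∀ a ∈ (L : Set G), ∀ x ∈ (Q : Subgroup G), x * a * x⁻¹ ∈ (L : Set G) :=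
        fun a ha x _ => hconj x a ha
      have hQL : ∀ x ∈ (Q : Subgroup G), ∀ z ∈ L, Commute x z := fun x hx z hz =>
        commute_of_commute_set (S.cyc Q) Q.2 hu huo hhN hhu hA hhL hx hz
      intro m hm
      have hc := isComplement'_pResidual h1 Q'
      have htop : (⟨m, hm⟩ : M) ∈ pResidual p M ⊔ (Q' : Subgroup M) := by
        rw [hc.sup_eq_top]; exact mem_top _
      obtain ⟨l, hl, x, hx, hlx⟩ := mem_sup_of_normal_left.mp htop
      have hm' : m = (l : G) * (x : G) := (congrArg Subtype.val hlx).symm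
      rw [hm']
      apply Subgroup.mul_mem
      · apply mem_normalizer_of_conj_mem
        intro w hw
        have : Commute w (l : G) := hQL w hw _ ⟨l, hl, rfl⟩
        rw [this.symm.eq, mul_inv_cancel_right]
        exact hw
      · exact le_normalizer ((hQ' x).mp hx)
    · have h2 := h1 Q'
      intro m hm
      apply mem_normalizer_of_conj_mem
      intro w hw
      have := h2.conj_mem ⟨w, hQM hw⟩ ((hQ' _).mpr hw) ⟨m, hm⟩
      exact (hQ' _).mp this
  apply S.notNormal Q
  have h1 : normalizer ((Q : Subgroup G) : Set G) ⊔ M = ⊤ :=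
    Sylow.normalizer_sup_eq_top' (N := M) Q hQM
  rw [sup_eq_left.mpr hMN] at h1
  exact normalizer_eq_top_iff.mp h1

/-- An element of order `p` is a "conjugate of a generator". -/
theorem Setup.exists_conj_of_order (Q : Sylow p G) {u : G} (hu : u ∈ (Q : Subgroup G))
    (huo : orderOf u = p) {v : G} (hv : orderOf v = p) :
    ∃ g : G, g * v * g⁻¹ ∈ zpowers u ∧ u ∈ zpowers (g * v * g⁻¹) := by
  obtain ⟨Q₁, hQ₁⟩ := exists_sylow_of_order v hv
  obtain ⟨g, hg⟩ := exists_conj_mem Q₁ Q hQ₁
  have ho : orderOf (g * v * g⁻¹) = p := by rw [orderOf_conj', hv]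
  refine ⟨g, mem_zpowers_of_pow_eq_one (S.cyc Q) hu huo hg ?_,
    mem_zpowers_of_pow_eq_one (S.cyc Q) hg ho hu ?_⟩
  · rw [← ho]; exact pow_orderOf_eq_one _
  · rw [← huo]; exact pow_orderOf_eq_one _

omit S in
/-- The order of a Sylow subgroup of `G` at `r ≠ p` being `≡ 1` for all `r` gives the
congruence for the `p'`-part. -/
theorem ordCompl_modEq_one {n : ℕ} (hn : n ≠ 0)
    (h : ∀ r : ℕ, r.Prime → r ≠ p → r ∣ n → r ^ n.factorization r ≡ 1 [MOD p]) :
    n / p ^ n.factorization p ≡ 1 [MOD p] := by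
  have hm0 : n / p ^ n.factorization p ≠ 0 := (Nat.ordCompl_pos p hn).ne'
  set m := n / p ^ n.factorization p with hm
  have hprod : m.factorization.prod (· ^ ·) = m := Nat.prod_factorization_pow_eq_self hm0
  rw [← ZMod.natCast_eq_natCast_iff]
  rw [← hprod, Finsupp.prod, Nat.cast_prod, Nat.cast_one]
  apply Finset.prod_eq_one
  intro r hr
  have hr' : r ∈ m.primeFactors := by simpa using hr
  have hrprime : r.Prime := Nat.prime_of_mem_primeFactors hr'
  have hrm : r ∣ m := Nat.dvd_of_mem_primeFactors hr'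
  have hmn : m ∣ n := Nat.ordCompl_dvd n p
  have hrp : r ≠ p := by
    rintro rfl
    exact Nat.not_dvd_ordCompl hp.out hn hrm
  have hfac : m.factorization r = n.factorization r := by
    rw [hm, Nat.factorization_ordCompl, Finsupp.erase_ne hrp]
  rw [hfac]
  have := h r hrprime hrp (hrm.trans hmn)
  rw [← ZMod.natCast_eq_natCast_iff] at this
  exact_mod_cast this

omit S [Finite G] in
/-- A nontrivial `p`-element has a power of order `p`. -/
theorem exists_pow_order {x : G} (hx : x ≠ 1) {k : ℕ} (hk : x ^ p ^ k = 1) :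
    ∃ n : ℕ, orderOf (x ^ n) = p := by
  have h1 : orderOf x ∣ p ^ k := orderOf_dvd_of_pow_eq_one hk
  obtain ⟨j, -, hj⟩ := (Nat.dvd_prime_pow hp.out).mp h1
  have hj0 : j ≠ 0 := by
    rintro rfl
    rw [pow_zero, orderOf_eq_one_iff] at hj
    exact hx hj
  have hne : orderOf x ≠ 0 := by rw [hj]; exact pow_ne_zero _ hp.out.ne_zero
  refine ⟨orderOf x / p, orderOf_pow_orderOf_div hne ?_⟩
  rw [hj]
  exact dvd_pow_self p hj0

omit S in
/-- The index of the centralizer in the normalizer of a subgroup of order `p`. -/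
theorem relIndex_dvd_of_order {u : G} (huo : orderOf u = p) :
    (centralizer (zpowers u : Set G)).relIndex (normalizer (zpowers u : Set G)) ∣ p - 1 := by
  have key := Subgroup.card_dvd_of_injective _
    (QuotientGroup.kerLift_injective (zpowers u).normalizerMonoidHom)
  rw [normalizerMonoidHom_ker, ← index, ← relIndex] at key
  have h1 : IsCyclic (zpowers u) := inferInstance
  rw [h1.card_mulAut, Nat.card_zpowers, huo, Nat.totient_prime hp.out] at key
  exact key

/-- `N(Q) = N(⟨u⟩)`. -/
theorem Setup.normalizer_eq (Q : Sylow p G) {u : G} {K : Subgroup G} (L : Loc Q u K) :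
    normalizer (zpowers u : Set G) = normalizer ((Q : Subgroup G) : Set G) := by
  apply le_antisymm
  · intro y hy
    apply L.mem_normalizer_of_conj S
    exact (mem_normalizer_iff.mp hy u).mp (mem_zpowers u)
  · intro y hy
    apply mem_normalizer_of_conj_mem
    rintro w ⟨j, rfl⟩
    have h1 := S.conj_mem_zpowers Q L.hu L.huo hy
    simp only
    rw [← conj_zpow]
    exact (zpowers u).zpow_mem h1 j

/-- The case when all the `K` are trivial. -/
theorem Setup.false_of_trivial
    (hK : ∀ v : G, orderOf v = p → ∀ z, Commute z v → Nat.Coprime (orderOf z) p → z = 1) :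
    False := by
  obtain ⟨Q⟩ : Nonempty (Sylow p G) := inferInstance
  obtain ⟨u, hu, huo⟩ := S.exists_order Q
  obtain ⟨K, L⟩ := S.exists_loc Q hu huo
  have hCQ : centralizer (zpowers u : Set G) = (Q : Subgroup G) := by
    apply le_antisymm
    · intro y hy
      have h1 : Commute y u := by
        have := (mem_centralizer_iff.mp hy) u (mem_zpowers u)
        exact this.symm
      obtain ⟨z, hz, x, hx, rfl⟩ := L.split y h1
      obtain ⟨h2, h3⟩ := (L.memK z).mp hz
      rw [hK u huo z h2 h3, one_mul]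
      exact hx
    · intro x hx
      rw [mem_centralizer_iff]
      rintro w ⟨j, rfl⟩
      have h1 : Commute x u := S.comm Q hx hu
      exact (h1.zpow_right j).symm.eq
  have he := relIndex_dvd_of_order (G := G) huo
  rw [hCQ, S.normalizer_eq Q L] at he
  set N := normalizer ((Q : Subgroup G) : Set G) with hN
  set e := (Q : Subgroup G).relIndex N with he'
  have hpos : 0 < p - 1 := Nat.sub_pos_of_lt hp.out.one_lt
  have hele : e ≤ p - 1 := Nat.le_of_dvd hpos he
  have hcard : Nat.card G = Nat.card Q * (e * N.index) := by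
    rw [he', Subgroup.relIndex_mul_index le_normalizer]
    exact (Subgroup.card_mul_index _).symm
  have hnp : N.index = Nat.card (Sylow p G) := (Sylow.card_eq_index_normalizer Q).symm
  have hsyl : Nat.card (Sylow p G) ≡ 1 [MOD p] := card_sylow_modEq_one p G
  have hn0 : Nat.card G ≠ 0 := Nat.card_pos.ne'
  have hQc : Nat.card Q = p ^ (Nat.card G).factorization p := Sylow.card_eq_multiplicity Q
  have hm : Nat.card G / p ^ (Nat.card G).factorization p = e * N.index := by
    rw [← hQc, hcard, Nat.mul_div_cancel_left _ Nat.card_pos]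
  have hmod := ordCompl_modEq_one (p := p) hn0 (by
    intro r hr hrp hrd
    haveI : Fact r.Prime := ⟨hr⟩
    obtain ⟨R⟩ : Nonempty (Sylow r G) := inferInstance
    obtain ⟨x, hxN, ⟨k, hk⟩, y, hy, hxy⟩ := S.exists_move hrp R hrd
    have hx1 : x ≠ 1 := by
      rintro rfl
      exact hxy (Commute.one_left y)
    obtain ⟨n, hn⟩ := exists_pow_order hx1 hk
    have hv : x ^ n ∈ normalizer ((R : Subgroup G) : Set G) := pow_mem hxN n
    have h1 := Transfer.SmallSylow.card_modEq_card_inf_centralizer (R : Subgroup G) hv (q := p)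
      (k := 1) (by rw [pow_one]; exact hn)
    have h2 : (R : Subgroup G) ⊓ centralizer ({x ^ n} : Set G) = ⊥ := by
      rw [eq_bot_iff]
      rintro z ⟨hz1, hz2⟩
      rw [mem_bot]
      refine hK _ hn z ?_ (orderOf_coprime_of_mem hrp R hz1)
      have := mem_centralizer_singleton_iff.mp hz2
      exact this
    rw [h2, Subgroup.card_bot] at h1
    rw [← Sylow.card_eq_multiplicity R]
    exact h1)
  rw [hm] at hmod
  have h3 : N.index ≡ 1 [MOD p] := by rw [hnp]; exact hsyl
  have h4 : e ≡ 1 [MOD p] := by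
    have h5 := h3.mul_left e
    rw [mul_one] at h5
    exact h5.symm.trans hmod
  have h6 : e = 1 := by
    have h7 : e % p = 1 % p := h4
    rw [Nat.mod_eq_of_lt (by omega), Nat.mod_eq_of_lt hp.out.one_lt] at h7
    exact h7
  have h8 : N ≤ (Q : Subgroup G) := relIndex_eq_one.mp h6
  obtain ⟨h, hhN, -, hhu⟩ := S.exists_h Q hu huo
  exact hhu (S.comm Q (h8 hhN) hu)

end Cfsg.Agent.Lib.CyclicSylow
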