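import Cfsg.Agent.Lib.CyclicSylow.Move
import Cfsg.Agent.Lib.CyclicSylow.Friend

/-!
# Cyclic Sylow subgroups: the case of a nontrivial `K`
-/

set_option autoImplicit false

namespace Cfsg.Agent.Lib.CyclicSylow

open Cfsg Subgroup Cfsg.Agent.Lib.Transfer.Basic Cfsg.Agent.Lib.CyclicSylow.Basic

universe u

variable {G : Type u} [Group G] [Finite G] {p : ℕ} [hp : Fact p.Prime]

/-- The number-theoretic core. -/
theorem prime_aux {r q : ℕ} (hr : r.Prime) (hq : q.Prime) (h1 : r ∣ q - 1) (h2 : q ∣ r ^ 2 - 1) :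
    r = 2 ∧ q = 3 := by
  have hq1 : 0 < q - 1 := Nat.sub_pos_of_lt hq.one_lt
  have hle : r ≤ q - 1 := Nat.le_of_dvd hq1 h1
  have hr2 := hr.two_le
  have hfac : r ^ 2 - 1 = (r - 1) * (r + 1) := by
    obtain ⟨s, rfl⟩ : ∃ s, r = s + 1 := ⟨r - 1, by omega⟩
    simp only [Nat.add_sub_cancel]
    have : (s + 1) ^ 2 = s * (s + 1 + 1) + 1 := by ring
    rw [this, Nat.add_sub_cancel]
  rw [hfac] at h2
  rcases (Nat.Prime.dvd_mul hq).mp h2 with h3 | h3
  · have := Nat.le_of_dvd (by omega) h3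
    omega
  · have h4 := Nat.le_of_dvd (by omega) h3
    have h5 : q = r + 1 := by omega
    rcases hr.eq_two_or_odd' with h6 | h6
    · subst h6
      exact ⟨rfl, h5⟩
    · exfalso
      have h7 : 2 ∣ q := by
        rw [h5]
        exact h6.add_one.two_dvd
      have h8 := (Nat.prime_dvd_prime_iff_eq Nat.prime_two hq).mp h7
      omega

/-- The configuration around a nontrivial element of `K`. -/
structure Mv (Q : Sylow p G) (u : G) (K : Subgroup G) {r : ℕ} [Fact r.Prime] (R : Sylow r G)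
    (k v : G) : Prop where
  L : Loc Q u K
  hkK : k ∈ K
  hkR : k ∈ (R : Subgroup G)
  hkr : orderOf k = r
  hrp : r ≠ p
  hRN : ∀ y ∈ (R : Subgroup G), y ∈ normalizer ((Q : Subgroup G) : Set G)
  hvo : orderOf v = p
  hvR : v ∈ normalizer ((R : Subgroup G) : Set G)
  hvN : v ∉ normalizer ((Q : Subgroup G) : Set G)
  hfix : ∀ y ∈ (R : Subgroup G), Commute v y → y = 1

omit [Finite G] hp in
/-- Mutual normalization of subgroups of coprime orders. -/
theorem commute_of_mutual {r : ℕ} [Fact r.Prime] [hp : Fact p.Prime] (hrp : r ≠ p) (R : Sylow r G)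
    (Q₁ : Sylow p G) {v : G} (hv : v ∈ (Q₁ : Subgroup G))
    (hvR : v ∈ normalizer ((R : Subgroup G) : Set G))
    (hRN : ∀ y ∈ (R : Subgroup G), y ∈ normalizer ((Q₁ : Subgroup G) : Set G))
    {y : G} (hy : y ∈ (R : Subgroup G)) : Commute v y := by
  set c := y * v * y⁻¹ * v⁻¹ with hc
  have h1 : c ∈ (Q₁ : Subgroup G) :=
    (Q₁ : Subgroup G).mul_mem ((mem_normalizer_iff.mp (hRN y hy) v).mp hv)
      ((Q₁ : Subgroup G).inv_mem hv)
  have h2 : c ∈ (R : Subgroup G) := by
    have h3 : v * y⁻¹ * v⁻¹ ∈ (R : Subgroup G) :=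
      (mem_normalizer_iff.mp hvR y⁻¹).mp ((R : Subgroup G).inv_mem hy)
    have h4 : c = y * (v * y⁻¹ * v⁻¹) := by rw [hc]; group
    rw [h4]
    exact (R : Subgroup G).mul_mem hy h3
  obtain ⟨m, hm⟩ := pow_card_sylow_eq_one Q₁ h1
  have h5 : c = 1 := coprime_eq_one (orderOf_coprime_of_mem hrp R h2) hm
  have h6 : y * v * y⁻¹ = v := by
    rw [hc, mul_inv_eq_one] at h5
    exact h5
  have h7 : y * v = v * y := mul_inv_eq_iff_eq_mul.mp h6
  exact h7.symm

variable (S : Setup p G)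
include S

/-- Existence of the configuration. -/
theorem Setup.exists_mv {Q : Sylow p G} {u : G} {K : Subgroup G} (L : Loc Q u K) {k : G}
    (hk : k ∈ K) {r : ℕ} [Fact r.Prime] (hkr : orderOf k = r) :
    ∃ (R : Sylow r G) (v : G), Mv Q u K R k v := by
  have hr : r.Prime := Fact.out
  have hrp : r ≠ p := by
    rintro rfl
    have h1 := ((L.memK k).mp hk).2
    rw [hkr] at h1
    exact hr.one_lt.ne' ((Nat.coprime_self r).mp h1)
  have hk1 : k ≠ 1 := by
    rintro rfl
    rw [orderOf_one] at hkr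
    exact hr.one_lt.ne hkr
  have hkz : IsPGroup r (zpowers k) :=
    Signal.Basic.isPGroup_zpowers_of_pow_eq_one (by rw [← hkr]; exact pow_orderOf_eq_one k)
  obtain ⟨R, hR⟩ := hkz.exists_le_sylow
  have hkR : k ∈ (R : Subgroup G) := hR (mem_zpowers k)
  have hRab := S.ab R (not_dvd_card_of_sylow hrp R)
  have hRc : ∀ a ∈ (R : Subgroup G), ∀ b ∈ (R : Subgroup G), Commute a b := by
    intro a ha b hb
    have : (⟨a, ha⟩ : (R : Subgroup G)) * ⟨b, hb⟩ = ⟨b, hb⟩ * ⟨a, ha⟩ := mul_comm' _ _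
    exact congrArg Subtype.val this
  have hRN : ∀ y ∈ (R : Subgroup G), y ∈ normalizer ((Q : Subgroup G) : Set G) := fun y hy =>
    L.mem_normalizer_of_commute S hk hk1 (hRc y hy k hkR)
  have hrd : r ∣ Nat.card G := by rw [← hkr]; exact orderOf_dvd_natCard k
  obtain ⟨x, hxN, ⟨j, hj⟩, y₀, hy₀, hxy₀⟩ := S.exists_move hrp R hrd
  have hx1 : x ≠ 1 := by
    rintro rfl
    exact hxy₀ (Commute.one_left y₀)
  obtain ⟨n, hn⟩ := exists_pow_order hx1 hj
  have hvR : x ^ n ∈ normalizer ((R : Subgroup G) : Set G) := pow_mem hxN n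
  obtain ⟨Qv, hQv⟩ := exists_sylow_of_order _ hn
  obtain ⟨Kv, Lv⟩ := S.exists_loc Qv hQv hn
  have hcomm : ∃ y ∈ (R : Subgroup G), ¬ Commute (x ^ n) y := by
    by_contra hc
    push Not at hc
    have h1 : y₀ ∈ Kv := (Lv.memK y₀).mpr ⟨(hc y₀ hy₀).symm, orderOf_coprime_of_mem hrp R hy₀⟩
    have h2 : x ∈ (Qv : Subgroup G) := Lv.mem_of_commute ((Commute.refl x).pow_right n) hj
    exact hxy₀ (Lv.commK y₀ h1 x h2).symm
  obtain ⟨y₁, hy₁, hvy₁⟩ := hcomm
  refine ⟨R, x ^ n, L, hk, hkR, hkr, hrp, hRN, hn, hvR, ?_, ?_⟩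
  · intro hvN
    have hvQ : x ^ n ∈ (Q : Subgroup G) :=
      mem_sylow_of_mem_normalizer Q hvN (k := 1) (by rw [pow_one, ← hn]; exact pow_orderOf_eq_one _)
    exact hvy₁ (commute_of_mutual hrp R Q hvQ hvR hRN hy₁)
  · intro y hy hvy
    by_contra hy1
    have h1 : y ∈ Kv := (Lv.memK y).mpr ⟨hvy.symm, orderOf_coprime_of_mem hrp R hy⟩
    have hRNv : ∀ z ∈ (R : Subgroup G), z ∈ normalizer ((Qv : Subgroup G) : Set G) := fun z hz =>
      Lv.mem_normalizer_of_commute S h1 hy1 (hRc z hz y hy)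
    exact hvy₁ (commute_of_mutual hrp R Qv hQv hvR hRNv hy₁)

namespace Mv

variable {Q : Sylow p G} {u : G} {K : Subgroup G} {r : ℕ} [Fact r.Prime] {R : Sylow r G} {k v : G}

/-- The main injectivity: an element of `R` commuting with `u` and whose `v`-conjugate commutes
with `u` is trivial. -/
theorem inj (M : Mv Q u K R k v) {c : G} (hc : c ∈ (R : Subgroup G)) (h1 : Commute c u)
    (h2 : Commute (v * c * v⁻¹) u) : c = 1 := by
  by_contra hc1
  have hcK : c ∈ K := (M.L.memK c).mpr ⟨h1, orderOf_coprime_of_mem M.hrp R hc⟩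
  have ho : orderOf (v⁻¹ * u * v⁻¹⁻¹) = p := by rw [orderOf_conj', M.L.huo]
  obtain ⟨Q₂, hQ₂⟩ := exists_sylow_of_order _ ho
  obtain ⟨K₂, L₂⟩ := S.exists_loc Q₂ hQ₂ ho
  have h3 : Commute c (v⁻¹ * u * v⁻¹⁻¹) := by
    have : Commute (MulAut.conj v⁻¹ (v * c * v⁻¹)) (MulAut.conj v⁻¹ u) := h2.map _
    have h4 : MulAut.conj v⁻¹ (v * c * v⁻¹) = c := by
      simp only [MulAut.conj_apply, inv_inv]
      group
    rw [h4] at this
    simpa only [MulAut.conj_apply] using this
  have hcK₂ : c ∈ K₂ := (L₂.memK c).mpr ⟨h3, orderOf_coprime_of_mem M.hrp R hc⟩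
  have h5 : (Q₂ : Subgroup G) ≤ (Q : Subgroup G) := L₂.le_of_mem_of_mem S M.L hcK₂ hcK hc1
  have h6 := h5 hQ₂
  have h7 : v⁻¹ * u * v⁻¹⁻¹ ∈ zpowers u :=
    mem_zpowers_of_pow_eq_one (S.cyc Q) M.L.hu M.L.huo h6
      (by rw [← ho]; exact pow_orderOf_eq_one _)
  have h8 := M.L.mem_normalizer_of_conj S h7
  apply M.hvN
  have := inv_mem h8
  rwa [inv_inv] at this

omit S in
omit [Finite G] hp in
theorem isCyclic_mulAut_zpowers [Finite G] [hp : Fact p.Prime] {u : G} (huo : orderOf u = p) :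
    IsCyclic (MulAut (zpowers u)) := by
  have h1 : Nat.card (zpowers u) = p := by rw [Nat.card_zpowers, huo]
  have key : ∀ n, n = p → IsCyclic (ZMod n)ˣ := by
    rintro _ rfl
    infer_instance
  haveI := key _ h1
  exact isCyclic_of_surjective (IsCyclic.mulAutMulEquiv (zpowers u)).symm.toMonoidHom
    (IsCyclic.mulAutMulEquiv (zpowers u)).symm.surjective

/-- The action on `⟨u⟩`, restricted to `R`. -/
theorem exists_phi (M : Mv Q u K R k v) :
    ∃ φ : ↥(R : Subgroup G) →* MulAut (zpowers u), ∀ y, φ y = 1 ↔ Commute (y : G) u := by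
  have hle : (R : Subgroup G) ≤ normalizer (zpowers u : Set G) := by
    rw [S.normalizer_eq Q M.L]
    exact M.hRN
  refine ⟨(zpowers u).normalizerMonoidHom.comp (inclusion hle), ?_⟩
  intro y
  have h1 : ((zpowers u).normalizerMonoidHom.comp (inclusion hle)) y = 1 ↔
      (inclusion hle y) ∈ (zpowers u).normalizerMonoidHom.ker := by
    rw [MonoidHom.mem_ker]
    rfl
  rw [h1, normalizerMonoidHom_ker, mem_subgroupOf]
  show (y : G) ∈ centralizer (zpowers u : Set G) ↔ _
  rw [mem_centralizer_iff]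
  constructor
  · intro h
    exact (h u (mem_zpowers u)).symm
  · rintro h _ ⟨j, rfl⟩
    exact (h.zpow_right j).symm.eq

/-- A bound for subgroups of exponent `n` of `R`, normalized by `v`. -/
theorem exists_f (M : Mv Q u K R k v) :
    ∃ f : ↥(R : Subgroup G) → MulAut (zpowers u) × MulAut (zpowers u),
      Function.Injective f ∧
      (∀ (y : ↥(R : Subgroup G)) (n : ℕ), (y : G) ^ n = 1 → (f y).1 ^ n = 1 ∧ (f y).2 ^ n = 1) ∧
      (∀ y : ↥(R : Subgroup G), (f y).1 = 1 ↔ Commute (y : G) u) ∧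
      (∀ y : ↥(R : Subgroup G), (f y).2 = 1 ↔ Commute (v * (y : G) * v⁻¹) u) := by
  obtain ⟨φ, hφ⟩ := M.exists_phi S
  have hmem : ∀ y : (R : Subgroup G), v * (y : G) * v⁻¹ ∈ (R : Subgroup G) := fun y =>
    (mem_normalizer_iff.mp M.hvR y).mp y.2
  let cv : ↥(R : Subgroup G) → ↥(R : Subgroup G) := fun y => ⟨v * y * v⁻¹, hmem y⟩
  refine ⟨fun y => (φ y, φ (cv y)), ?_, ?_, ?_, ?_⟩
  · intro a b hab
    have h1 : φ a = φ b := congrArg Prod.fst hab
    have h2 : φ (cv a) = φ (cv b) := congrArg Prod.snd hab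
    have h3 : φ (a * b⁻¹) = 1 := by rw [map_mul, map_inv, h1, mul_inv_cancel]
    have h4 : cv (a * b⁻¹) = cv a * (cv b)⁻¹ := by
      apply Subtype.ext
      simp only [cv, Subgroup.coe_mul, InvMemClass.coe_inv]
      group
    have h5 : φ (cv (a * b⁻¹)) = 1 := by rw [h4, map_mul, map_inv, h2, mul_inv_cancel]
    have h6 := M.inj S (c := ((a * b⁻¹ : (R : Subgroup G)) : G)) (a * b⁻¹).2 ((hφ _).mp h3)
      ((hφ (cv (a * b⁻¹))).mp h5)
    have h7 : a * b⁻¹ = 1 := Subtype.ext h6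
    exact mul_inv_eq_one.mp h7
  · intro y n hn
    have h1 : y ^ n = 1 := Subtype.ext (by rw [SubmonoidClass.coe_pow, hn]; rfl)
    have h2 : (cv y) ^ n = 1 := by
      apply Subtype.ext
      simp only [cv, SubmonoidClass.coe_pow, OneMemClass.coe_one]
      rw [conj_pow, hn]
      simp
    exact ⟨by rw [← map_pow, h1, map_one], by show (φ (cv y)) ^ n = 1; rw [← map_pow, h2, map_one]⟩
  · intro y
    exact hφ y
  · intro y
    exact hφ (cv y)

/-- `r` divides `p - 1`. -/
theorem dvd_sub_one (M : Mv Q u K R k v) : r ∣ p - 1 := by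
  have hr : r.Prime := Fact.out
  obtain ⟨f, hf, hpow, h1, h2⟩ := M.exists_f S
  have hk1 : k ≠ 1 := by
    intro h
    have := M.hkr
    rw [h, orderOf_one] at this
    exact hr.one_lt.ne this
  let k' : (R : Subgroup G) := ⟨k, M.hkR⟩
  have hku : Commute k u := ((M.L.memK k).mp M.hkK).1
  have hne : (f k').2 ≠ 1 := by
    intro h
    exact hk1 (M.inj S M.hkR hku ((h2 k').mp h))
  have h3 : (f k').2 ^ r = 1 :=
    (hpow k' r (by show k ^ r = 1; rw [← M.hkr]; exact pow_orderOf_eq_one k)).2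
  have h4 : orderOf (f k').2 = r := orderOf_eq_prime h3 hne
  have hcard : Nat.card (MulAut (zpowers u)) = p - 1 := by
    have h5 : IsCyclic (zpowers u) := inferInstance
    rw [h5.card_mulAut, Nat.card_zpowers, M.L.huo, Nat.totient_prime hp.out]
  rw [← h4, ← hcard]
  exact orderOf_dvd_natCard _

/-- `r = 2` and `p = 3`. -/
theorem eq_two_three (M : Mv Q u K R k v) : r = 2 ∧ p = 3 := by
  classical
  have hr : r.Prime := Fact.out
  apply prime_aux hr hp.out (M.dvd_sub_one S)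
  obtain ⟨f, hf, hpow, h1, h2⟩ := M.exists_f S
  have hRab := S.ab R (not_dvd_card_of_sylow M.hrp R)
  have hRc : ∀ a ∈ (R : Subgroup G), ∀ b ∈ (R : Subgroup G), Commute a b := by
    intro a ha b hb
    have : (⟨a, ha⟩ : (R : Subgroup G)) * ⟨b, hb⟩ = ⟨b, hb⟩ * ⟨a, ha⟩ := mul_comm' _ _
    exact congrArg Subtype.val this
  let T : Subgroup G :=
    { carrier := {y | y ∈ (R : Subgroup G) ∧ y ^ r = 1}
      mul_mem' := by
        rintro a b ⟨ha, ha'⟩ ⟨hb, hb'⟩
        refine ⟨(R : Subgroup G).mul_mem ha hb, ?_⟩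
        rw [(hRc a ha b hb).mul_pow, ha', hb', one_mul]
      one_mem' := ⟨(R : Subgroup G).one_mem, one_pow r⟩
      inv_mem' := by
        rintro a ⟨ha, ha'⟩
        exact ⟨(R : Subgroup G).inv_mem ha, by rw [inv_pow, ha', inv_one]⟩ }
  have hmemT : ∀ y, y ∈ T ↔ y ∈ (R : Subgroup G) ∧ y ^ r = 1 := fun y => Iff.rfl
  -- the upper bound
  have hcyc := isCyclic_mulAut_zpowers (G := G) M.L.huo
  haveI : Finite (MulAut (zpowers u)) := inferInstance
  haveI := Fintype.ofFinite (MulAut (zpowers u))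
  let μ : Finset (MulAut (zpowers u)) := Finset.univ.filter fun w => w ^ r = 1
  have hμ : μ.card ≤ r := IsCyclic.card_pow_eq_one_le hr.pos
  have hTle : Nat.card T ≤ r ^ 2 := by
    haveI := Fintype.ofFinite T
    rw [Nat.card_eq_fintype_card, ← Finset.card_univ]
    let g : T → MulAut (zpowers u) × MulAut (zpowers u) := fun y => f ⟨y, y.2.1⟩
    have hg : (Finset.univ : Finset T).card ≤ (μ ×ˢ μ).card := by
      apply Finset.card_le_card_of_injOn g
      · intro y _
        have h3 := hpow ⟨y, y.2.1⟩ r y.2.2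
        simp only [Finset.coe_product, Set.mem_prod, Finset.mem_coe]
        exact ⟨Finset.mem_filter.mpr ⟨Finset.mem_univ _, h3.1⟩,
          Finset.mem_filter.mpr ⟨Finset.mem_univ _, h3.2⟩⟩
      · intro a _ b _ hab
        have h9 : (⟨a, a.2.1⟩ : ↥(R : Subgroup G)) = ⟨b, b.2.1⟩ := hf hab
        have h10 : (a : G) = b := congrArg (fun x : ↥(R : Subgroup G) => (x : G)) h9
        exact Subtype.ext h10
    rw [Finset.card_product] at hg
    calc _ ≤ μ.card * μ.card := hg
      _ ≤ r * r := Nat.mul_le_mul hμ hμ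
      _ = r ^ 2 := (pow_two r).symm
  -- `T` is an `r`-group
  have hTR : T ≤ (R : Subgroup G) := fun y hy => hy.1
  have hTp : IsPGroup r T := R.2.to_le hTR
  obtain ⟨j, hj⟩ := IsPGroup.iff_card.mp hTp
  -- the congruence
  have hvT : v ∈ normalizer (T : Set G) := by
    apply mem_normalizer_of_conj_mem
    rintro y ⟨hy, hy'⟩
    refine ⟨(mem_normalizer_iff.mp M.hvR y).mp hy, ?_⟩
    rw [conj_pow, hy']
    simp
  have hmod := Transfer.SmallSylow.card_modEq_card_inf_centralizer T hvT (q := p) (k := 1)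
    (by rw [pow_one]; exact M.hvo)
  have hinf : T ⊓ centralizer ({v} : Set G) = ⊥ := by
    rw [eq_bot_iff]
    rintro y ⟨hy1, hy2⟩
    rw [mem_bot]
    apply M.hfix y hy1.1
    have := mem_centralizer_singleton_iff.mp hy2
    exact this.symm
  rw [hinf, Subgroup.card_bot, hj] at hmod
  -- `j` is `1` or `2`
  have hj0 : j ≠ 0 := by
    rintro rfl
    rw [pow_zero] at hj
    have h3 : T = ⊥ := Subgroup.card_eq_one.mp hj
    have h4 : k ∈ T := ⟨M.hkR, by rw [← M.hkr]; exact pow_orderOf_eq_one k⟩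
    rw [h3, mem_bot] at h4
    have := M.hkr
    rw [h4, orderOf_one] at this
    exact hr.one_lt.ne this
  have hj2 : j ≤ 2 := by
    rw [hj] at hTle
    exact (Nat.pow_le_pow_iff_right hr.one_lt).mp hTle
  have hmod2 : r ^ 2 ≡ 1 [MOD p] := by
    have : j = 1 ∨ j = 2 := by omega
    rcases this with rfl | rfl
    · have h5 := hmod.pow 2
      rw [pow_one, one_pow] at h5
      exact h5
    · exact hmod
  exact (Nat.modEq_iff_dvd' (Nat.one_le_pow _ _ hr.pos)).mp hmod2.symm

/-- The residual case. -/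
theorem false (M : Mv Q u K R k v) : False := by
  obtain ⟨hr2, hp3⟩ := M.eq_two_three S
  subst hr2
  subst hp3
  have hu := M.L.hu
  have huo := M.L.huo
  obtain ⟨f, hf, hpow, hf1, hf2⟩ := M.exists_f S
  have hRab := S.ab R (not_dvd_card_of_sylow M.hrp R)
  have hRc : ∀ a ∈ (R : Subgroup G), ∀ b ∈ (R : Subgroup G), Commute a b := by
    intro a ha b hb
    have : (⟨a, ha⟩ : (R : Subgroup G)) * ⟨b, hb⟩ = ⟨b, hb⟩ * ⟨a, ha⟩ := mul_comm' _ _
    exact congrArg Subtype.val this
  have hgam : Nat.card (MulAut (zpowers u)) = 2 := by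
    have h5 : IsCyclic (zpowers u) := inferInstance
    rw [h5.card_mulAut, Nat.card_zpowers, huo]
    decide
  have hRcard : Nat.card (R : Subgroup G) ≤ 4 := by
    have h1 := Nat.card_le_card_of_injective f hf
    rw [Nat.card_prod, hgam] at h1
    exact h1
  have hkku : Commute k u := ((M.L.memK k).mp M.hkK).1
  have hk2 : orderOf k = 2 := M.hkr
  have hv3 : v ^ 3 = 1 := by rw [← M.hvo]; exact pow_orderOf_eq_one v
  have hk1 : k ≠ 1 := ne_one_of_order_two hk2
  have hconjR : ∀ y ∈ (R : Subgroup G), v * y * v⁻¹ ∈ (R : Subgroup G) := fun y hy =>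
    (mem_normalizer_iff.mp M.hvR y).mp hy
  have hfix' : ∀ y ∈ (R : Subgroup G), y ≠ 1 → v * y * v⁻¹ ≠ y := by
    intro y hy hy1 h
    exact hy1 (M.hfix y hy (mul_inv_eq_iff_eq_mul.mp h))
  set k₁ := v * k * v⁻¹ with hk₁
  set k₂ := v * k₁ * v⁻¹ with hk₂
  have hk₁R : k₁ ∈ (R : Subgroup G) := hconjR k M.hkR
  have hk₂R : k₂ ∈ (R : Subgroup G) := hconjR k₁ hk₁R
  have hk₁o : orderOf k₁ = 2 := order_two_conj hk2 v
  have hk₂o : orderOf k₂ = 2 := order_two_conj hk₁o v
  have hk₁1 : k₁ ≠ 1 := ne_one_of_order_two hk₁o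
  have hk₂1 : k₂ ≠ 1 := ne_one_of_order_two hk₂o
  have hne1 : k₁ ≠ k := hfix' k M.hkR hk1
  have hne2 : k₂ ≠ k₁ := hfix' k₁ hk₁R hk₁1
  have hne3 : k₂ ≠ k := by
    intro h
    have h1 : v * (v * k * v⁻¹) * v⁻¹ = k := h
    -- `v` is a power of `v ^ 2`
    have h2 : Commute (v ^ 2) k := by
      show v ^ 2 * k = k * v ^ 2
      have : v ^ 2 * k * (v ^ 2)⁻¹ = k := by
        calc v ^ 2 * k * (v ^ 2)⁻¹ = v * (v * k * v⁻¹) * v⁻¹ := by rw [pow_two]; group
          _ = k := h1
      exact mul_inv_eq_iff_eq_mul.mp this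
    have h3 : Commute v k := by
      have h4 : v = (v ^ 2) ^ 2 := by
        rw [← pow_mul]
        calc v = v ^ 3 * v := by rw [hv3, one_mul]
          _ = v ^ (2 * 2) := by rw [← pow_succ]
      rw [h4]
      exact h2.pow_left 2
    exact hk1 (M.hfix k M.hkR h3)
  -- all elements of R
  have hall : ∀ y ∈ (R : Subgroup G), y = 1 ∨ y = k ∨ y = k₁ ∨ y = k₂ := by
    classical
    haveI := Fintype.ofFinite (R : Subgroup G)
    let S' : Finset ↥(R : Subgroup G) := {1, ⟨k, M.hkR⟩, ⟨k₁, hk₁R⟩, ⟨k₂, hk₂R⟩}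
    have hS' : S'.card = 4 := by
      have a1 : (⟨k₁, hk₁R⟩ : ↥(R : Subgroup G)) ∉
          ({⟨k₂, hk₂R⟩} : Finset ↥(R : Subgroup G)) := by
        simp only [Finset.mem_singleton, Subtype.mk.injEq]
        exact hne2.symm
      have a2 : (⟨k, M.hkR⟩ : ↥(R : Subgroup G)) ∉
          ({⟨k₁, hk₁R⟩, ⟨k₂, hk₂R⟩} : Finset ↥(R : Subgroup G)) := by
        simp only [Finset.mem_insert, Finset.mem_singleton, Subtype.mk.injEq, not_or]
        exact ⟨hne1.symm, hne3.symm⟩
      have a3 : (1 : ↥(R : Subgroup G)) ∉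
          ({⟨k, M.hkR⟩, ⟨k₁, hk₁R⟩, ⟨k₂, hk₂R⟩} : Finset ↥(R : Subgroup G)) := by
        simp only [Finset.mem_insert, Finset.mem_singleton, Subtype.ext_iff, not_or]
        exact ⟨hk1.symm, hk₁1.symm, hk₂1.symm⟩
      simp only [S']
      rw [Finset.card_insert_of_notMem a3, Finset.card_insert_of_notMem a2,
        Finset.card_insert_of_notMem a1, Finset.card_singleton]
    have hS'' : S' = Finset.univ := by
      apply Finset.eq_univ_of_card
      apply le_antisymm (Finset.card_le_univ S')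
      rw [hS', ← Nat.card_eq_fintype_card]
      exact hRcard
    intro y hy
    have h1 : (⟨y, hy⟩ : ↥(R : Subgroup G)) ∈ S' := by rw [hS'']; exact Finset.mem_univ _
    simp only [S', Finset.mem_insert, Finset.mem_singleton, Subtype.ext_iff] at h1
    exact h1
  -- all involutions are conjugate to `k`
  have hconj : ∀ t : G, orderOf t = 2 → ∃ g : G, g * k * g⁻¹ = t := by
    intro t ht
    have htz : IsPGroup 2 (zpowers t) :=
      Signal.Basic.isPGroup_zpowers_of_pow_eq_one (by rw [← ht]; exact pow_orderOf_eq_one t)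
    obtain ⟨R', hR'⟩ := htz.exists_le_sylow
    obtain ⟨g, hg⟩ := exists_conj_mem R' R (hR' (mem_zpowers t))
    have key : ∀ a : G, a * k * a⁻¹ = g * t * g⁻¹ → ∃ g : G, g * k * g⁻¹ = t := by
      intro a ha
      refine ⟨g⁻¹ * a, ?_⟩
      calc (g⁻¹ * a) * k * (g⁻¹ * a)⁻¹ = g⁻¹ * (a * k * a⁻¹) * g := by group
        _ = t := by rw [ha]; group
    rcases hall _ hg with h1 | h1 | h1 | h1
    · exfalso
      have h2 : orderOf (g * t * g⁻¹) = 2 := order_two_conj ht g
      rw [h1] at h2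
      simp at h2
    · exact key 1 (by rw [h1]; group)
    · exact key v (by rw [h1])
    · exact key (v * v) (by rw [h1, hk₂, hk₁]; group)
  -- unique involution in `K`
  have hKuniq : ∀ w ∈ K, orderOf w = 2 → w = k := by
    intro w hw hwo
    have hwR : w ∈ (R : Subgroup G) := by
      have h1 : w ∈ normalizer ((R : Subgroup G) : Set G) := by
        apply mem_normalizer_of_conj_mem
        intro y hy
        have h2 : Commute y w := M.L.commute_of_mem_normalizer S (M.hRN y hy) hw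
        rw [h2.symm.eq, mul_inv_cancel_right]
        exact hy
      refine mem_sylow_of_mem_normalizer R h1 (k := 1) ?_
      rw [pow_one, ← hwo]
      exact pow_orderOf_eq_one w
    have hwu : Commute w u := ((M.L.memK w).mp hw).1
    have hw1 : w ≠ 1 := ne_one_of_order_two hwo
    let w' : ↥(R : Subgroup G) := ⟨w, hwR⟩
    let k' : ↥(R : Subgroup G) := ⟨k, M.hkR⟩
    have h1 : (f w').1 = 1 := (hf1 w').mpr hwu
    have h2 : (f k').1 = 1 := (hf1 k').mpr hkku
    have h3 : (f w').2 ≠ 1 := fun h => hw1 (M.inj S hwR hwu ((hf2 w').mp h))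
    have h4 : (f k').2 ≠ 1 := fun h => hk1 (M.inj S M.hkR hkku ((hf2 k').mp h))
    have h5 : (f w').2 = (f k').2 := by
      classical
      haveI := Fintype.ofFinite (MulAut (zpowers u))
      obtain ⟨x, y, hxy, hall'⟩ := Nat.card_eq_two_iff.mp hgam
      have h6 : ∀ z : MulAut (zpowers u), z = x ∨ z = y := by
        intro z
        have : z ∈ ({x, y} : Set (MulAut (zpowers u))) := by rw [hall']; exact Set.mem_univ z
        simpa using this
      have h7 : (1 : MulAut (zpowers u)) = x ∨ (1 : MulAut (zpowers u)) = y := h6 1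
      rcases h7 with h7 | h7 <;> rcases h6 (f w').2 with h8 | h8 <;> rcases h6 (f k').2 with h9 | h9
      · exact absurd (h8.trans h7.symm) h3
      · exact absurd (h8.trans h7.symm) h3
      · exact absurd (h9.trans h7.symm) h4
      · exact h8.trans h9.symm
      · exact h8.trans h9.symm
      · exact absurd (h9.trans h7.symm) h4
      · exact absurd (h8.trans h7.symm) h3
      · exact absurd (h8.trans h7.symm) h3
    have h6 : f w' = f k' := Prod.ext (h1.trans h2.symm) h5
    have h7 : w' = k' := hf h6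
    exact congrArg (fun x : ↥(R : Subgroup G) => (x : G)) h7
  -- the residual configuration
  have hco : ∀ t : G, orderOf t = 2 → Nat.Coprime (orderOf t) 3 := by
    intro t ht
    rw [ht]
    decide
  have hloc : ∀ v₁ : G, orderOf v₁ = 3 → ∃ (Q₁ : Sylow 3 G) (K₁ : Subgroup G), Loc Q₁ v₁ K₁ := by
    intro v₁ hv₁
    obtain ⟨Q₁, hQ₁⟩ := exists_sylow_of_order v₁ hv₁
    obtain ⟨K₁, L₁⟩ := S.exists_loc Q₁ hQ₁ hv₁
    exact ⟨Q₁, K₁, L₁⟩
  have Rs : Resid G :=
    { hab := S.ab
      hexw := by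
        intro v₁ hv₁
        obtain ⟨g, hg1, hg2⟩ := S.exists_conj_of_order Q hu huo hv₁
        refine ⟨g⁻¹ * k * g⁻¹⁻¹, order_two_conj hk2 _, ?_⟩
        obtain ⟨j, hj⟩ := hg1
        simp only at hj
        have h1 : Commute k (g * v₁ * g⁻¹) := by
          rw [← hj]
          exact hkku.zpow_right j
        have h2 : Commute (MulAut.conj g⁻¹ k) (MulAut.conj g⁻¹ (g * v₁ * g⁻¹)) := h1.map _
        have h3 : MulAut.conj g⁻¹ (g * v₁ * g⁻¹) = v₁ := by
          simp only [MulAut.conj_apply, inv_inv]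
          group
        rw [h3] at h2
        simpa only [MulAut.conj_apply] using h2
      huniq := by
        intro v₁ w w' hv₁ hw hw' h1 h2
        obtain ⟨g, hg1, hg2⟩ := S.exists_conj_of_order Q hu huo hv₁
        obtain ⟨j, hj⟩ := hg2
        simp only at hj
        have key : ∀ x : G, orderOf x = 2 → Commute x v₁ → g * x * g⁻¹ = k := by
          intro x hx hxv
          apply hKuniq _ _ (order_two_conj hx g)
          apply (M.L.memK _).mpr
          refine ⟨?_, hco _ (order_two_conj hx g)⟩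
          rw [← hj]
          apply Commute.zpow_right
          have : Commute (MulAut.conj g x) (MulAut.conj g v₁) := hxv.map _
          simpa only [MulAut.conj_apply] using this
        have h3 := key w hw h1
        have h4 := key w' hw' h2
        have h5 : g * w * g⁻¹ = g * w' * g⁻¹ := h3.trans h4.symm
        simpa using h5
      hexv := by
        intro t ht
        obtain ⟨g, rfl⟩ := hconj t ht
        refine ⟨g * u * g⁻¹, by rw [orderOf_conj', huo], ?_⟩
        have : Commute (MulAut.conj g k) (MulAut.conj g u) := hkku.map _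
        simpa only [MulAut.conj_apply] using this
      hN1 := by
        intro t v₁ y ht hv₁ htv hyt
        obtain ⟨Q₁, K₁, L₁⟩ := hloc v₁ hv₁
        have h1 : t ∈ K₁ := (L₁.memK t).mpr ⟨htv, hco t ht⟩
        have h2 := L₁.mem_normalizer_of_commute S h1 (ne_one_of_order_two ht) hyt
        exact S.conj_mem_zpowers Q₁ L₁.hu L₁.huo h2
      hN2 := by
        intro t v₁ y ht hv₁ htv hy
        obtain ⟨Q₁, K₁, L₁⟩ := hloc v₁ hv₁
        have h1 : t ∈ K₁ := (L₁.memK t).mpr ⟨htv, hco t ht⟩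
        have h2 := L₁.mem_normalizer_of_conj S hy
        exact L₁.commute_of_mem_normalizer S h2 h1 }
  -- three neighbours of `k`
  have hkk₁ : Commute k k₁ := hRc k M.hkR k₁ hk₁R
  have hk₁u : ¬ Commute k₁ u := fun h => hk1 (M.inj S M.hkR hkku h)
  have hmul : orderOf (k₁ * k) = 2 := by
    apply order_two_of
    · calc k₁ * k * (k₁ * k) = (k₁ * k₁) * (k * k) := hkk₁.mul_mul_mul_comm k₁ k
        _ = 1 := by rw [mul_self_of_order_two hk₁o, mul_self_of_order_two hk2, one_mul]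
    · intro h
      apply hne1
      rw [eq_inv_of_mul_eq_one_left h, inv_eq_of_order_two hk2]
  have hconjk : Commute k (u * k₁ * u⁻¹) := by
    have h1 : Commute k u := hkku
    exact (h1.mul_right hkk₁).mul_right h1.inv_right
  refine Rs.false k hk2 hconj k₁ (k₁ * k) (u * k₁ * u⁻¹) hk₁o hmul (order_two_conj hk₁o u) hkk₁
    (hkk₁.mul_right (Commute.refl k)) hconjk hne1.symm ?_ ?_ ?_ ?_ ?_
  · intro h
    have h1 : k₁ = 1 := by
      have : 1 * k = k₁ * k := by rw [one_mul]; exact h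
      exact (mul_right_cancel this).symm
    exact hk₁1 h1
  · intro h
    apply hne1
    have h1 : u⁻¹ * k * u = k₁ := by
      rw [h]
      group
    rw [← h1]
    have h2 : k * u = u * k := hkku.eq
    rw [mul_assoc, h2]
    group
  · intro h
    apply hk1
    have h1 : k₁ * 1 = k₁ * k := by rw [mul_one]; exact h
    exact (mul_left_cancel h1).symm
  · intro h
    apply hk₁u
    have h1 : k₁ * u = u * k₁ := by
      calc k₁ * u = (u * k₁ * u⁻¹) * u := by rw [← h]
        _ = u * k₁ := by group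
    exact h1
  · intro h
    apply hk1
    have h1 : k = k₁⁻¹ * u * k₁ * u⁻¹ := by
      have h2 : k₁ * k = u * k₁ * u⁻¹ := h
      calc k = k₁⁻¹ * (k₁ * k) := by group
        _ = k₁⁻¹ * (u * k₁ * u⁻¹) := by rw [h2]
        _ = _ := by group
    have h3 : k₁⁻¹ * u * k₁⁻¹⁻¹ ∈ (Q : Subgroup G) := by
      have h4 : k₁⁻¹ ∈ normalizer ((Q : Subgroup G) : Set G) :=
        inv_mem (M.hRN k₁ hk₁R)
      exact (mem_normalizer_iff.mp h4 u).mp hu
    rw [inv_inv] at h3
    have h5 : k ∈ (Q : Subgroup G) := by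
      rw [h1]
      exact (Q : Subgroup G).mul_mem h3 ((Q : Subgroup G).inv_mem hu)
    obtain ⟨m, hm⟩ := pow_card_sylow_eq_one Q h5
    exact coprime_eq_one (hco k hk2) hm

end Mv

/-- There is no minimal counterexample. -/
theorem Setup.false : False := by
  by_cases hK : ∀ v : G, orderOf v = p → ∀ z, Commute z v → Nat.Coprime (orderOf z) p → z = 1
  · exact S.false_of_trivial hK
  · push Not at hK
    obtain ⟨v, hv, z, hzv, hzc, hz1⟩ := hK
    obtain ⟨Q₁, hQ₁⟩ := exists_sylow_of_order v hv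
    obtain ⟨K₁, L₁⟩ := S.exists_loc Q₁ hQ₁ hv
    have hz : z ∈ K₁ := (L₁.memK z).mpr ⟨hzv, hzc⟩
    have ho1 : orderOf z ≠ 1 := fun h => hz1 (orderOf_eq_one_iff.mp h)
    have hr := Nat.minFac_prime ho1
    haveI : Fact (orderOf z).minFac.Prime := ⟨hr⟩
    have hkr : orderOf (z ^ (orderOf z / (orderOf z).minFac)) = (orderOf z).minFac :=
      orderOf_pow_orderOf_div (orderOf_pos z).ne' (Nat.minFac_dvd _)
    obtain ⟨R, v', M⟩ := S.exists_mv L₁ (K₁.pow_mem hz _) hkr
    exact M.false S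

end Cfsg.Agent.Lib.CyclicSylow
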